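import Cfsg.Agent.Lib.Flavell57.Defs
import Cfsg.Agent.Lib.HHS57.Main
import Cfsg.Agent.Lib.PGroups.Frattini

/-!
# `[L, a]` is a `2`-group modulo the centre (helper57)

`twoPart`: `a` of prime order `r` acts coprimely on `L` and on the `p`-group `Y` normalised by `L`.
If elements of `L` of order prime to `p` fix `C_Y(a)`, those in `[L, a]` centralising `Y` are central
in `[L, a]` and fixed by `a`, and the invariant normal `p`-subgroups of `L` lie in `Zp`, then
`[L, a]` is a `2`-group modulo `Zp`.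
-/

set_option autoImplicit false
set_option linter.style.haveILetI false
set_option linter.unusedSectionVars false

namespace Cfsg.Agent.Lib.Flavell57

open Cfsg Cfsg.Agent.Lib
open Cfsg.Agent.Lib.FpfAut (exists_fixed_mul)
open Cfsg.Agent.Lib.HHS57 (Stb cm fixG resA resA_apply stb_cm cm_le mem_cm cm_le_iff)
open Subgroup

universe u

/-- A subgroup containing a Sylow subgroup for every prime is everything. -/
theorem eq_top_of_sylow {G : Type u} [Group G] [Finite G] {N : Subgroup G}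
    (h : ∀ q : ℕ, q.Prime → ∃ S : Sylow q G, (S : Subgroup G) ≤ N) : N = ⊤ := by
  refine eq_top_of_card_eq N (Nat.eq_of_factorization_eq Nat.card_pos.ne' Nat.card_pos.ne' fun q => ?_)
  by_cases hq : q.Prime
  swap
  · simp [Nat.factorization_eq_zero_of_not_prime _ hq]
  haveI := Fact.mk hq
  obtain ⟨S, hS⟩ := h q hq
  refine le_antisymm ?_ ?_
  · exact (Nat.factorization_le_iff_dvd Nat.card_pos.ne' Nat.card_pos.ne').2
      N.card_subgroup_dvd_card q
  · refine (hq.pow_dvd_iff_le_factorization Nat.card_pos.ne').1 ?_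
    rw [← S.card_eq_multiplicity]
    exact card_dvd_of_le hS

/-- An element of order prime to `p` whose `p ^ k`-th power lies in `N` lies in `N`. -/
theorem mem_of_pow_mem {G : Type u} [Group G] [Finite G] {p k : ℕ} (hp : p.Prime) {N : Subgroup G}
    {x : G} (hx : ¬ p ∣ orderOf x) (h : x ^ p ^ k ∈ N) : x ∈ N := by
  obtain ⟨n, hn⟩ := exists_pow_eq_self_of_coprime (n := p ^ k) (x := x)
    (((hp.coprime_iff_not_dvd).2 hx).pow_left k)
  rw [← hn]
  exact pow_mem h n

variable {X : Type u} [Group X] [Finite X] {p r : ℕ} {a : X} {L Y Zp : Subgroup X}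

theorem twoPart (hp : p.Prime) (hp2 : p ≠ 2) (hr : r.Prime) (ha : a ^ r = 1)
    (hLa : a ∈ normalizer (L : Set X)) (hYa : a ∈ normalizer (Y : Set X))
    (hLY : L ≤ normalizer (Y : Set X)) (hLZ : L ≤ normalizer (Zp : Set X))
    (hZa : a ∈ normalizer (Zp : Set X))
    (hrL : ¬ r ∣ Nat.card L) (hrY : ¬ r ∣ Nat.card Y) (hY : IsPGroup p Y)
    (hfix : ∀ d ∈ L, ¬ p ∣ orderOf d → ∀ y ∈ Y, a * y = y * a → d * y = y * d)
    (hcen : ∀ d ∈ cm (MulAut.conj a) L, ¬ p ∣ orderOf d → (∀ y ∈ Y, d * y = y * d) →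
      a * d = d * a ∧ ∀ x ∈ cm (MulAut.conj a) L, d * x = x * d)
    (hcore : ∀ U ≤ L, L ≤ normalizer (U : Set X) → a ∈ normalizer (U : Set X) → IsPGroup p U →
      U ≤ Zp) :
    ∀ x ∈ cm (MulAut.conj a) L, ∃ k, x ^ 2 ^ k ∈ Zp := by
  haveI := Fact.mk hp
  set β : MulAut X := MulAut.conj a with hβdef
  have hβ : β ^ r = 1 := by rw [hβdef, ← map_pow, ha, map_one]
  have hβL : Stb β L := fun x hx => (mem_normalizer_iff.1 hLa x).1 hx
  set D := cm β L with hDdef
  have hDL : D ≤ L := cm_le hβL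
  have hβD : Stb β D := stb_cm hβL
  have hLD : L ≤ normalizer (D : Set X) := fun g hg =>
    Flavell42.mem_normalizer_of_forall fun x hx => HHS57.conj_mem_cm' hg hx
  have haD : a ∈ normalizer (D : Set X) := Flavell42.mem_normalizer_of_forall hβD
  have hrD : ¬ r ∣ Nat.card D := fun h => hrL (h.trans (card_dvd_of_le hDL))
  -- `[D, a] = D`
  have hcmD : D ≤ cm β D := by
    rw [hDdef, cm_le_iff]
    intro x hx
    obtain ⟨m, hm, hf⟩ := exists_fixed_mul hr hβ hβD hrD (mem_cm (β := β) hx)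
    rw [map_mul] at hf
    rw [show x⁻¹ * β x = m * (β m)⁻¹ by
      rw [inv_mul_eq_iff_eq_mul, ← mul_assoc, eq_mul_inv_iff_mul_eq, hf]]
    have := inv_mem (mem_cm (β := β) hm)
    rw [mul_inv_rev, inv_inv] at this
    have h2 := HHS57.conj_mem_cm' hm this
    rwa [show m * ((β m)⁻¹ * m) * m⁻¹ = m * (β m)⁻¹ by group] at h2
  -- the module
  set ΦX := (frattini ↥Y).map Y.subtype with hΦX
  have hΦY : ΦX ≤ Y := map_subtype_le _
  have hNΦ : normalizer (Y : Set X) ≤ normalizer (ΦX : Set X) :=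
    CharP.normalizer_le_normalizer_map_char _
  have hΦ : ∀ {y : ↥Y}, y ∈ frattini ↥Y ↔ (y : X) ∈ ΦX := fun {y} =>
    (mem_map_iff_mem Y.subtype_injective).symm
  let θ : normalizer (Y : Set X) →* MulAut Y := Y.normalizerMonoidHom
  have hθ : ∀ (g : normalizer (Y : Set X)) (y : Y), (θ g y : X) = g * y * (g : X)⁻¹ := fun _ _ => rfl
  let F : Subgroup Y :=
    { carrier := {y | ∀ d : X, d ∈ D → ¬ p ∣ orderOf d → d * y * d⁻¹ * (y : X)⁻¹ ∈ ΦX}
      one_mem' := fun d _ _ => by simp [ΦX.one_mem]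
      mul_mem' := fun {y z} hy hz d hd hdp => by
        rw [show d * ((y * z : Y) : X) * d⁻¹ * ((y * z : Y) : X)⁻¹ =
          (d * y * d⁻¹ * (y : X)⁻¹) * ((y : X) * (d * z * d⁻¹ * (z : X)⁻¹) * (y : X)⁻¹) by
          rw [coe_mul]; group]
        exact mul_mem (hy d hd hdp)
          (Flavell42.conj_mem (hNΦ (le_normalizer y.2)) (hz d hd hdp))
      inv_mem' := fun {y} hy d hd hdp => by
        rw [show d * ((y⁻¹ : Y) : X) * d⁻¹ * ((y⁻¹ : Y) : X)⁻¹ =
          (y : X)⁻¹ * (d * y * d⁻¹ * (y : X)⁻¹)⁻¹ * ((y : X)⁻¹)⁻¹ by rw [coe_inv]; group]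
        exact Flavell42.conj_mem (hNΦ (le_normalizer (inv_mem y.2))) (inv_mem (hy d hd hdp)) }
  have hΦF : frattini ↥Y ≤ F := fun y hy d hd _ =>
    mul_mem (Flavell42.conj_mem (hNΦ (hLY (hDL hd))) (hΦ.1 hy)) (inv_mem (hΦ.1 hy))
  haveI hFn : F.Normal := ⟨fun y hy g => by
    have h1 : g * y * g⁻¹ * y⁻¹ ∈ F := hΦF (PGroups.commutatorElement_mem_frattini hY g y)
    simpa using F.mul_mem h1 hy⟩
  letI : CommGroup (↥Y ⧸ F) := { (inferInstance : Group (↥Y ⧸ F)) with
    mul_comm := fun x y => QuotientGroup.induction_on x fun g => QuotientGroup.induction_on y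
      fun h => QuotientGroup.eq.2 (hΦF (by
        simpa [commutatorElement_def, mul_assoc] using
          PGroups.commutatorElement_mem_frattini hY h⁻¹ g⁻¹)) }
  have hFinv : ∀ g : normalizer (Y : Set X), (g : X) ∈ normalizer (D : Set X) →
      F.map (θ g).toMonoidHom = F := fun g hg => by
    refine eq_of_le_of_card_ge ?_ (le_of_eq (card_map_of_injective (θ g).injective).symm)
    rintro _ ⟨y, hy, rfl⟩ d hd hdp
    have h1 : (g : X)⁻¹ * d * g ∈ D := by
      simpa using Flavell42.conj_mem (inv_mem hg) hd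
    have h2 := hy _ h1 (by
      rwa [show (g : X)⁻¹ * d * g = MulAut.conj (g : X)⁻¹ d by simp, MulEquiv.orderOf_eq])
    have h3 := Flavell42.conj_mem (hNΦ g.2) h2
    show d * (θ g y : X) * d⁻¹ * (θ g y : X)⁻¹ ∈ ΦX
    rw [hθ]
    convert h3 using 1
    group
  let φ : D →* MulAut (↥Y ⧸ F) :=
    { toFun := fun g => QuotientGroup.congr F F (θ ⟨g, hLY (hDL g.2)⟩)
        (hFinv _ (le_normalizer g.2))
      map_one' := MulEquiv.ext fun x => QuotientGroup.induction_on x fun v => by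
        show (QuotientGroup.mk (θ 1 v) : ↥Y ⧸ F) = QuotientGroup.mk v
        rw [map_one]; rfl
      map_mul' := fun g h => MulEquiv.ext fun x => QuotientGroup.induction_on x fun v => by
        show (QuotientGroup.mk (θ (⟨g, hLY (hDL g.2)⟩ * ⟨h, hLY (hDL h.2)⟩) v) : ↥Y ⧸ F) =
          QuotientGroup.mk (θ ⟨g, hLY (hDL g.2)⟩ (θ ⟨h, hLY (hDL h.2)⟩ v))
        rw [map_mul]; rfl }
  let e : MulAut (↥Y ⧸ F) := QuotientGroup.congr F F (θ ⟨a, hYa⟩) (hFinv _ haD)
  have hθa : θ ⟨a, hYa⟩ ^ r = 1 := by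
    rw [← map_pow, show (⟨a, hYa⟩ : normalizer (Y : Set X)) ^ r = 1 from Subtype.ext ha, map_one]
  set βD := resA β D hβD with hβDdef
  obtain ⟨W, hWn, -, hkW, hWp, hW2⟩ := HHS57.exists_twoMod (HHS57.below_all (Nat.card D + 1))
    hp hp2 hr (Nat.lt_succ_self _) (HHS57.resA_pow_r hβ hβD) hrD _ (↥Y ⧸ F) φ e rfl
    (fun v => QuotientGroup.induction_on v fun y => by
      rw [← QuotientGroup.mk_pow, QuotientGroup.eq_one_iff]
      exact hΦF (PGroups.pow_mem_frattini hY y))
    (MulEquiv.ext fun x => QuotientGroup.induction_on x fun v => by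
      rw [HHS57.congr_pow, hθa]; rfl)
    (fun x => QuotientGroup.induction_on x fun v hv => by
      obtain ⟨m, hm, hf⟩ := exists_fixed_mul (β := θ ⟨a, hYa⟩) hr hθa (N := F)
        (fun y hy => (hFinv _ haD).le ⟨y, hy, rfl⟩)
        (fun hd => hrY (hd.trans F.card_subgroup_dvd_card))
        (QuotientGroup.eq.1 (show (QuotientGroup.mk v : ↥Y ⧸ F) =
          QuotientGroup.mk (θ ⟨a, hYa⟩ v) from hv.symm))
      have hvm : v * m ∈ F := fun d hd hdp => by
        have hc : a * (v * m : Y) = (v * m : Y) * a :=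
          mul_inv_eq_iff_eq_mul.1 (congrArg Subtype.val hf)
        rw [hfix d (hDL hd) hdp _ (v * m).2 hc]
        simp [ΦX.one_mem]
      rw [QuotientGroup.eq_one_iff]
      exact (F.mul_mem_cancel_right hm).1 hvm)
    (fun g => MulEquiv.ext fun x => QuotientGroup.induction_on x fun v => by
      obtain ⟨v, rfl⟩ := (θ ⟨a, hYa⟩).surjective v
      show φ (βD g) (QuotientGroup.mk (θ ⟨a, hYa⟩ v)) =
        e (φ g (e.symm (e (QuotientGroup.mk v))))
      rw [MulEquiv.symm_apply_apply]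
      show (QuotientGroup.mk _ : ↥Y ⧸ F) = QuotientGroup.mk _
      refine congrArg _ (Subtype.ext ?_)
      show a * (g : X) * a⁻¹ * (a * v * a⁻¹) * (a * (g : X) * a⁻¹)⁻¹ =
        a * ((g : X) * v * (g : X)⁻¹) * a⁻¹
      group)
  haveI := hWn
  -- elements of `W` of order prime to `p` are central and fixed
  set Zc : Subgroup D := center D ⊓ fixG βD with hZc
  haveI : Zc.Normal := ⟨fun z hz g => by
    rw [(mem_center_iff.1 hz.1 g), mul_inv_cancel_right]; exact hz⟩
  have hWcen : ∀ w ∈ W, ¬ p ∣ orderOf w → w ∈ Zc := by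
    intro w hw hwp
    obtain ⟨k, hk⟩ := hWp w hw
    have hwk : φ w = 1 := MonoidHom.mem_ker.1 (mem_of_pow_mem hp hwp hk)
    have hwX : ¬ p ∣ orderOf (w : X) := by rwa [Subgroup.orderOf_coe]
    have htriv : ∀ y ∈ Y, (w : X) * y * (w : X)⁻¹ * y⁻¹ ∈ ΦX := by
      intro y hy
      set y' : Y := ⟨y, hy⟩
      let t : MulAut (↥Y ⧸ frattini ↥Y) :=
        QuotientGroup.congr _ _ (θ ⟨w, hLY (hDL w.2)⟩) (characteristic_iff_map_eq.1 inferInstance _)
      have hz : θ ⟨w, hLY (hDL w.2)⟩ y' * y'⁻¹ ∈ F := by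
        have h1 : (QuotientGroup.mk (θ ⟨w, hLY (hDL w.2)⟩ y') : ↥Y ⧸ F) = QuotientGroup.mk y' :=
          DFunLike.congr_fun hwk (QuotientGroup.mk y')
        rw [← QuotientGroup.eq_one_iff, QuotientGroup.mk_mul, QuotientGroup.mk_inv, h1,
          mul_inv_cancel]
      set z : ↥Y := θ ⟨w, hLY (hDL w.2)⟩ y' * y'⁻¹ with hzdef
      have htz : t (QuotientGroup.mk z) = QuotientGroup.mk z := by
        refine (QuotientGroup.eq.2 ?_).symm
        have h1 : θ ⟨w, hLY (hDL w.2)⟩ z * z⁻¹ ∈ frattini ↥Y := hΦ.2 (hz w w.2 hwX)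
        simpa [mul_assoc] using (inferInstance : (frattini ↥Y).Normal).conj_mem _ h1 z⁻¹
      have hty : t (QuotientGroup.mk y') = QuotientGroup.mk z * QuotientGroup.mk y' := by
        show (QuotientGroup.mk (θ ⟨w, hLY (hDL w.2)⟩ y') : ↥Y ⧸ frattini ↥Y) = _
        rw [← QuotientGroup.mk_mul, hzdef, inv_mul_cancel_right]
      have hn : ∀ n : ℕ, (t ^ n) (QuotientGroup.mk y') =
          QuotientGroup.mk z ^ n * QuotientGroup.mk y' := by
        intro n
        induction n with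
        | zero => simp
        | succ n ih =>
          rw [pow_succ', MulAut.mul_apply, ih, map_mul, map_pow, htz, hty, ← mul_assoc, ← pow_succ]
      have ho : t ^ orderOf (w : X) = 1 := MulEquiv.ext fun x =>
        QuotientGroup.induction_on x fun v => by
          rw [HHS57.congr_pow, ← map_pow,
            show (⟨w, hLY (hDL w.2)⟩ : normalizer (Y : Set X)) ^ orderOf (w : X) = 1 from
              Subtype.ext (pow_orderOf_eq_one _), map_one]
          rfl
      have h1 : (QuotientGroup.mk z : ↥Y ⧸ frattini ↥Y) ^ orderOf (w : X) = 1 := by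
        have := hn (orderOf (w : X))
        rw [ho, MulAut.one_apply] at this
        exact mul_eq_right.1 this.symm
      have h2 : (QuotientGroup.mk z : ↥Y ⧸ frattini ↥Y) ^ p = 1 := by
        rw [← QuotientGroup.mk_pow, QuotientGroup.eq_one_iff]
        exact PGroups.pow_mem_frattini hY z
      have h3 := Nat.eq_one_of_dvd_coprimes ((hp.coprime_iff_not_dvd).2 hwX)
        (orderOf_dvd_of_pow_eq_one h2) (orderOf_dvd_of_pow_eq_one h1)
      exact hΦ.1 ((QuotientGroup.eq_one_iff _).1 (orderOf_eq_one_iff.1 h3))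
    have hcY : zpowers (w : X) ≤ centralizer (Y : Set X) := by
      refine Coprime.le_centralizer_of_frattini (zpowers_le.2 (hLY (hDL w.2))) ?_ ?_
      · obtain ⟨i, hi⟩ := IsPGroup.iff_card.1 (hY.to_subgroup (frattini ↥Y))
        rw [Nat.card_zpowers, hi]
        exact (((hp.coprime_iff_not_dvd).2 hwX).pow_left i).symm
      · rintro _ ⟨i, rfl⟩ y hy
        have hm : ((w : X) ^ i) ∈ (normalizer (Y : Set X)) := zpow_mem (hLY (hDL w.2)) i
        obtain ⟨n, hn⟩ : ∃ n : ℕ, (w : X) ^ n = (w : X) ^ i :=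
          Submonoid.mem_powers_iff _ _ |>.1 ((mem_powers_iff_mem_zpowers).2 ⟨i, rfl⟩)
        show (w : X) ^ i * y * ((w : X) ^ i)⁻¹ * y⁻¹ ∈ ΦX
        rw [← hn]
        clear hm hn
        induction n with
        | zero => simp [ΦX.one_mem]
        | succ n ih =>
          rw [show (w : X) ^ (n + 1) * y * ((w : X) ^ (n + 1))⁻¹ * y⁻¹ =
            ((w : X) * ((w : X) ^ n * y * ((w : X) ^ n)⁻¹ * y⁻¹) * (w : X)⁻¹) *
              ((w : X) * y * (w : X)⁻¹ * y⁻¹) by rw [pow_succ']; group]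
          exact mul_mem (Flavell42.conj_mem (hNΦ (hLY (hDL w.2))) ih) (htriv y hy)
    obtain ⟨h1, h2⟩ := hcen w w.2 hwX fun y hy =>
      (mem_centralizer_iff.1 (hcY (mem_zpowers _)) y hy).symm
    exact ⟨mem_center_iff.2 fun g => Subtype.ext (h2 g g.2).symm,
      HHS57.mem_fixG.2 (Subtype.ext (mul_inv_eq_iff_eq_mul.2 h1))⟩
  -- so `W` lies in the product of `Zp` and the fixed centre
  set N0 : Subgroup D := Zp.subgroupOf D with hN0
  haveI : N0.Normal := normal_subgroupOf_of_le_normalizer (hDL.trans hLZ)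
  have hN0β : Stb βD N0 := fun x hx => Flavell42.conj_mem hZa (mem_subgroupOf.1 hx)
  have hcoreD : pCoreOf p D ≤ Zp := by
    refine hcore _ ((CosetGraph.SylowIn.pCoreOf_le p D).trans hDL)
      (hLD.trans Flavell42.normalizer_le_normalizer_pCoreOf)
      (Flavell42.normalizer_le_normalizer_pCoreOf haD) (CosetGraph.SylowIn.isPGroup_pCoreOf p D)
  have hWle : W ≤ N0 ⊔ Zc := by
    obtain ⟨P⟩ := (inferInstance : Nonempty (Sylow p W))
    have hZW : ∀ w : W, ¬ p ∣ orderOf w → w ∈ Zc.subgroupOf W := fun w hw =>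
      hWcen w w.2 (by rwa [Subgroup.orderOf_coe])
    have htop : (P : Subgroup W) ⊔ Zc.subgroupOf W = ⊤ := by
      refine eq_top_of_sylow fun q hq => ?_
      by_cases hqp : q = p
      · subst hqp; exact ⟨P, le_sup_left⟩
      · haveI := Fact.mk hq
        obtain ⟨S⟩ := (inferInstance : Nonempty (Sylow q W))
        refine ⟨S, fun s hs => mem_sup_right (hZW s fun hd => hqp ?_)⟩
        obtain ⟨i, hi⟩ := S.isPGroup' ⟨s, hs⟩
        exact ((Nat.prime_dvd_prime_iff_eq hp hq).1 (hp.dvd_of_dvd_pow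
          (hd.trans (orderOf_dvd_of_pow_eq_one (congrArg Subtype.val hi))))).symm
    haveI hPn : (P : Subgroup W).Normal := by
      rw [← normalizer_eq_top_iff, eq_top_iff, ← htop]
      refine sup_le le_normalizer fun z hz => ?_
      refine Flavell42.mem_normalizer_of_forall fun x hx => ?_
      have hzc : z * x = x * z := Subtype.ext ((mem_center_iff.1 (mem_subgroupOf.1 hz).1 x).symm)
      rwa [hzc, mul_inv_cancel_right]
    haveI := P.characteristic_of_normal hPn
    have hPD : (P : Subgroup W).map W.subtype ≤ N0 := by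
      haveI : ((P : Subgroup W).map W.subtype).Normal := Cores.normal_map_subtype _ _
      intro x hx
      refine mem_subgroupOf.2 (hcoreD ?_)
      exact ⟨x, Cores.le_pCore (P.isPGroup'.map _) hx, rfl⟩
    intro w hw
    obtain ⟨s, hs, z, hz, hsz⟩ := mem_sup_of_normal_left.1
      (htop.ge (mem_top (⟨w, hw⟩ : W)))
    rw [show w = (s : D) * (z : D) from congrArg Subtype.val hsz.symm]
    exact mul_mem (mem_sup_left (hPD ⟨s, hs, rfl⟩)) (mem_sup_right hz)
  -- a Sylow `2`-subgroup, `Zp` and the fixed centre generate `D`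
  have hcmtop : cm βD (⊤ : Subgroup D) = ⊤ := by
    refine eq_top_iff.2 fun x _ => ?_
    have h1 : cm β D ≤ (cm βD (⊤ : Subgroup D)).map D.subtype :=
      cm_le_iff.2 fun y hy => ⟨_, mem_cm (mem_top (⟨y, hy⟩ : D)), rfl⟩
    exact (mem_map_iff_mem D.subtype_injective).1 (h1 (hcmD x.2))
  haveI : Fact (Nat.Prime 2) := ⟨Nat.prime_two⟩
  obtain ⟨T, hT⟩ := FpfAut.exists_invariant_sylow (X := D) hr (HHS57.resA_pow_r hβ hβD) hrD 2
  set T' : Subgroup D := (T : Subgroup D) ⊔ N0 with hT'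
  have hgen : T' ⊔ Zc = ⊤ := by
    refine eq_top_of_sylow fun q hq => ?_
    by_cases hq2 : q = 2
    · subst hq2; exact ⟨T, le_sup_left.trans le_sup_left⟩
    · haveI := Fact.mk hq
      obtain ⟨S⟩ := (inferInstance : Nonempty (Sylow q D))
      refine ⟨S, fun s hs => ?_⟩
      obtain ⟨k, hk⟩ := hW2 s (hcmtop.ge (mem_top s))
      have hs2 : ¬ 2 ∣ orderOf s := fun hd => hq2 (by
        obtain ⟨i, hi⟩ := S.isPGroup' ⟨s, hs⟩
        exact ((Nat.prime_dvd_prime_iff_eq Nat.prime_two hq).1 (Nat.prime_two.dvd_of_dvd_pow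
          (hd.trans (orderOf_dvd_of_pow_eq_one (congrArg Subtype.val hi))))).symm)
      have hle : N0 ⊔ Zc ≤ T' ⊔ Zc := sup_le_sup_right le_sup_right Zc
      exact hle (mem_of_pow_mem Nat.prime_two hs2 (hWle hk))
  have hTtop : T' = ⊤ := by
    rw [eq_top_iff, ← hcmtop, cm_le_iff]
    intro x _
    obtain ⟨t, ht, z, hz, rfl⟩ := mem_sup_of_normal_right.1 (hgen.ge (mem_top x))
    rw [map_mul, HHS57.mem_fixG.1 hz.2, mem_center_iff.1 hz.1 t,
      mem_center_iff.1 hz.1 (βD t),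
      show (z * t)⁻¹ * (z * βD t) = t⁻¹ * βD t by group]
    exact mul_mem (inv_mem ht) ((Stb.sup hT hN0β) t ht)
  intro x hx
  obtain ⟨t, ht, n, hn, htn⟩ := mem_sup_of_normal_right.1 (hTtop.ge (mem_top (⟨x, hx⟩ : D)))
  obtain ⟨k, hk⟩ := T.isPGroup' ⟨t, ht⟩
  refine ⟨k, (?_ : (⟨x, hx⟩ : D) ^ 2 ^ k ∈ N0)⟩
  rw [← QuotientGroup.eq_one_iff, QuotientGroup.mk_pow, ← htn, QuotientGroup.mk_mul,
    (QuotientGroup.eq_one_iff n).2 hn, mul_one, ← QuotientGroup.mk_pow,
    show t ^ 2 ^ k = 1 from congrArg Subtype.val hk, QuotientGroup.mk_one]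

end Cfsg.Agent.Lib.Flavell57
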