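import Cfsg.Agent.Lib.Flavell57.Layer
import Cfsg.Agent.Lib.Flavell57.TwoPart

/-!
# `C_G(a)` normalises the image of `pInv p A G` (helper57)

The largest invariant `Q ≤ pInv p A G` whose image under the functor is normalised by `C_G(a)` is
`pInv p A G` itself.
-/

set_option autoImplicit false
set_option linter.style.haveILetI false
set_option linter.unusedSectionVars false

namespace Cfsg.Agent.Lib.Flavell57

open Cfsg Cfsg.Agent.Lib
open Cfsg.Agent.Lib.Flavell42 (pInv Act)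
open Cfsg.Agent.Lib.HHS57 (cm mem_cm)
open Subgroup

universe u

variable {p r : ℕ} [Fact p.Prime] [Fact r.Prime]

/-- A commutator of `p`-power order commuting with an element of order prime to `p` is trivial. -/
theorem eq_one_of_comm_pow {G : Type u} [Group G] {U : Subgroup G} (hU : IsPGroup p U) {d y : G}
    (hd : ¬ p ∣ orderOf d) (hw : d * y * d⁻¹ * y⁻¹ ∈ U)
    (hc : d * (d * y * d⁻¹ * y⁻¹) = d * y * d⁻¹ * y⁻¹ * d) : d * y = y * d := by
  set w := d * y * d⁻¹ * y⁻¹ with hwdef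
  have hn : ∀ n : ℕ, d ^ n * y * (d ^ n)⁻¹ = w ^ n * y := by
    intro n
    induction n with
    | zero => simp
    | succ n ih =>
      calc d ^ (n + 1) * y * (d ^ (n + 1))⁻¹ = d * (d ^ n * y * (d ^ n)⁻¹) * d⁻¹ := by
            rw [pow_succ']; group
        _ = d * w ^ n * y * d⁻¹ := by rw [ih]; group
        _ = w ^ n * (d * y * d⁻¹) := by rw [((show Commute d w from hc).pow_right n).eq]; group
        _ = w ^ n * w * y := by rw [hwdef]; group
        _ = w ^ (n + 1) * y := by rw [pow_succ]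
  have h1 : w ^ orderOf d = 1 := by
    have := hn (orderOf d)
    rw [pow_orderOf_eq_one, one_mul, inv_one, mul_one] at this
    exact mul_eq_right.1 this.symm
  have h2 : w = 1 := HHS57.eq_one_of_isPGroup_of_not_dvd Fact.out hU hw fun hd' =>
    hd (hd'.trans (orderOf_dvd_of_pow_eq_one h1))
  exact mul_inv_eq_iff_eq_mul.1 (mul_inv_eq_one.1 h2)

/-- If the elements of order prime to `p` are central, every element is one of `O_p` times one of
them. -/
theorem exists_decomp {H : Type u} [Group H] [Finite H]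
    (h : ∀ x : H, ¬ p ∣ orderOf x → x ∈ center H) (x : H) :
    ∃ u ∈ pCore p H, ∃ v : H, ¬ p ∣ orderOf v ∧ x = u * v := by
  have hp : p.Prime := Fact.out
  obtain ⟨P⟩ := (inferInstance : Nonempty (Sylow p H))
  have htop : (P : Subgroup H) ⊔ center H = ⊤ := by
    refine eq_top_of_sylow fun q hq => ?_
    by_cases hqp : q = p
    · subst hqp; exact ⟨P, le_sup_left⟩
    · haveI := Fact.mk hq
      obtain ⟨S⟩ := (inferInstance : Nonempty (Sylow q H))
      refine ⟨S, fun s hs => mem_sup_right (h s fun hd => hqp ?_)⟩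
      obtain ⟨i, hi⟩ := S.isPGroup' ⟨s, hs⟩
      exact ((Nat.prime_dvd_prime_iff_eq hp hq).1 (hp.dvd_of_dvd_pow
        (hd.trans (orderOf_dvd_of_pow_eq_one (congrArg Subtype.val hi))))).symm
  haveI hPn : (P : Subgroup H).Normal := by
    rw [← normalizer_eq_top_iff, eq_top_iff, ← htop]
    refine sup_le le_normalizer fun z hz => ?_
    exact Flavell42.mem_normalizer_of_forall fun w hw => by
      rwa [← mem_center_iff.1 hz w, mul_inv_cancel_right]
  set k := (orderOf x).factorization p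
  set m := orderOf x / p ^ k with hm
  have hkm : p ^ k * m = orderOf x := Nat.ordProj_mul_ordCompl_eq_self _ p
  have hmp : ¬ p ∣ m := Nat.not_dvd_ordCompl hp (orderOf_pos x).ne'
  have hbez := Nat.gcd_eq_gcd_ab (p ^ k) m
  rw [(((hp.coprime_iff_not_dvd).2 hmp).pow_left k)] at hbez
  set u := x ^ ((m : ℤ) * Nat.gcdB (p ^ k) m) with hu
  set v := x ^ ((p ^ k : ℕ) * Nat.gcdA (p ^ k) m : ℤ) with hv
  have hu1 : u ^ p ^ k = 1 := by
    rw [hu, ← zpow_natCast, ← zpow_mul, mul_comm, ← mul_assoc, ← Nat.cast_mul, hkm, zpow_mul,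
      zpow_natCast, pow_orderOf_eq_one, one_zpow]
  have hv1 : v ^ m = 1 := by
    rw [hv, ← zpow_natCast, ← zpow_mul, mul_comm, ← mul_assoc, ← Nat.cast_mul, mul_comm m, hkm,
      zpow_mul, zpow_natCast, pow_orderOf_eq_one, one_zpow]
  refine ⟨u, ?_, v, fun hd => hmp (hd.trans (orderOf_dvd_of_pow_eq_one hv1)), ?_⟩
  · obtain ⟨i, -, hi⟩ := (Nat.dvd_prime_pow hp).1 (orderOf_dvd_of_pow_eq_one hu1)
    obtain ⟨Q, hQ⟩ := (IsPGroup.iff_card.2 ⟨i, by rw [Nat.card_zpowers, hi]⟩ :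
      IsPGroup p (zpowers u)).exists_le_sylow
    haveI := Sylow.unique_of_normal P hPn
    rw [Subsingleton.elim Q P] at hQ
    exact Cores.le_pCore P.isPGroup' (hQ (mem_zpowers u))
  · rw [hu, hv, ← zpow_add, add_comm, ← hbez, Nat.cast_one, zpow_one]

variable {X : Type u} [Group X] [Finite X]

/-- The elements centralising `E` modulo `O`. -/
def cenMod (E O : Subgroup X) : Subgroup X where
  carrier := {x | x ∈ normalizer (O : Set X) ∧ x ∈ normalizer (E : Set X) ∧
    ∀ y ∈ E, x * y * x⁻¹ * y⁻¹ ∈ O}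
  one_mem' := ⟨one_mem _, one_mem _, fun y _ => by simp [O.one_mem]⟩
  mul_mem' := fun {x z} hx hz => ⟨mul_mem hx.1 hz.1, mul_mem hx.2.1 hz.2.1, fun y hy => by
    rw [show x * z * y * (x * z)⁻¹ * y⁻¹ =
      x * (z * y * z⁻¹ * y⁻¹) * x⁻¹ * (x * y * x⁻¹ * y⁻¹) by group]
    exact mul_mem (Flavell42.conj_mem hx.1 (hz.2.2 y hy)) (hx.2.2 y hy)⟩
  inv_mem' := fun {x} hx => ⟨inv_mem hx.1, inv_mem hx.2.1, fun y hy => by
    rw [show x⁻¹ * y * x⁻¹⁻¹ * y⁻¹ = x⁻¹ * (x * y * x⁻¹ * y⁻¹)⁻¹ * x⁻¹⁻¹ by group]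
    exact Flavell42.conj_mem (inv_mem hx.1) (inv_mem (hx.2.2 y hy))⟩

theorem le_normalizer_cenMod {E O S : Subgroup X} (hE : S ≤ normalizer (E : Set X))
    (hO : S ≤ normalizer (O : Set X)) : S ≤ normalizer (cenMod E O : Set X) := fun g hg =>
  Flavell42.mem_normalizer_of_forall fun x hx => ⟨mul_mem (mul_mem (hO hg) hx.1) (inv_mem (hO hg)),
    mul_mem (mul_mem (hE hg) hx.2.1) (inv_mem (hE hg)), fun y hy => by
      have h1 := Flavell42.conj_mem (inv_mem (hE hg)) hy
      rw [inv_inv] at h1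
      rw [show g * x * g⁻¹ * y * (g * x * g⁻¹)⁻¹ * y⁻¹ =
        g * (x * (g⁻¹ * y * g) * x⁻¹ * (g⁻¹ * y * g)⁻¹) * g⁻¹ by group]
      exact Flavell42.conj_mem (hO hg) (hx.2.2 _ h1)⟩

/-- `central_mod` without assuming that `Z` is normal in the ambient group. -/
theorem central_mod' {A M E Z : Subgroup X} {a e f : X} (hA : Two r e f A) (hact : Act A M)
    (hrM : ¬ r ∣ Nat.card M) (hZE : Z ≤ E) (hEM : E ≤ M) (hME : M ≤ normalizer (E : Set X))
    (hAE : A ≤ normalizer (E : Set X)) (hMZ : M ≤ normalizer (Z : Set X))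
    (hAZ : A ≤ normalizer (Z : Set X)) (ha : a ∈ A)
    (hca : ∀ y ∈ E ⊓ centralizer {a}, ∀ b ∈ A, y⁻¹ * (b * y * b⁻¹) ∈ Z)
    (hM : M ≤ (M ⊓ centralizer {a}) ⊔ pInv p A M)
    (hsol : ∀ (q : ℕ) [Fact q.Prime], ∀ U ≤ E, IsPGroup q U →
      E ≤ normalizer ((U ⊔ Z : Subgroup X) : Set X) → U ≤ Z)
    (hD : (∀ U ≤ E, IsPGroup p U → A ≤ normalizer (U : Set X) →
        E ⊓ centralizer (A : Set X) ≤ normalizer (U : Set X) → U ≤ Z) →
      ∀ c, (c = f ∨ ∃ t : ℕ, c = e * f ^ t) → ∃ D ≤ E, A ≤ normalizer (D : Set X) ∧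
        E ⊓ centralizer (A : Set X) ≤ normalizer (D : Set X) ∧ (∀ d ∈ D, ∃ k, d ^ 2 ^ k ∈ Z) ∧
        ∀ x ∈ E ⊓ centralizer {c}, ∀ b ∈ A, x⁻¹ * (b * x * b⁻¹) ∈ D) :
    ∀ x ∈ E, ∀ b ∈ A, x⁻¹ * (b * x * b⁻¹) ∈ Z := by
  set N := normalizer (Z : Set X) with hN
  have hEN : E ≤ N := hEM.trans hMZ
  have hZN : Z ≤ N := le_normalizer
  haveI : (Z.subgroupOf N).Normal := Subgroup.normal_in_normalizer
  have hinj := N.subtype_injective
  have hmA : (A.subgroupOf N).map N.subtype = A := map_subgroupOf_eq_of_le hAZ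
  have hmM : (M.subgroupOf N).map N.subtype = M := map_subgroupOf_eq_of_le hMZ
  set e' : N := ⟨e, hAZ hA.mem_e⟩
  set f' : N := ⟨f, hAZ hA.mem_f⟩
  have hA' : Two r e' f' (A.subgroupOf N) := by
    refine ⟨Subtype.ext hA.he, Subtype.ext hA.hf, Subtype.ext hA.hef.eq, map_injective hinj ?_⟩
    rw [hmA, MonoidHom.map_closure, Set.image_pair]
    exact hA.hA
  have hcard : ∀ {S : Subgroup X}, S ≤ N → Nat.card (S.subgroupOf N) = Nat.card S := fun hS =>
    Nat.card_congr (subgroupOfEquivOfLe hS).toEquiv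
  have hsub : ∀ {S T : Subgroup X}, S ≤ normalizer (T : Set X) →
      S.subgroupOf N ≤ normalizer (T.subgroupOf N : Set N) := fun {S T} hST g hg =>
    Flavell42.mem_normalizer_of_forall fun x hx =>
      show (g : X) * x * (g : X)⁻¹ ∈ T from Flavell42.conj_mem (hST hg) hx
  have hact' : Act (A.subgroupOf N) (M.subgroupOf N) :=
    ⟨hsub hact.norm, by rw [hcard hAZ, hcard hMZ]; exact hact.cop, hA'.solvable⟩
  have hcenA : ∀ {x : N}, x ∈ centralizer (A.subgroupOf N : Set N) ↔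
      (x : X) ∈ centralizer (A : Set X) := fun {x} => by
    refine ⟨fun h => mem_centralizer_iff.2 fun b hb =>
      congrArg Subtype.val (mem_centralizer_iff.1 h ⟨b, hAZ hb⟩ hb),
      fun h => mem_centralizer_iff.2 fun b hb => Subtype.ext (mem_centralizer_iff.1 h _ hb)⟩
  have hcen1 : ∀ {x c : N}, x ∈ centralizer {c} ↔ (x : X) ∈ centralizer {(c : X)} := fun {x c} => by
    simp only [mem_centralizer_singleton_iff, Subtype.ext_iff, Subgroup.coe_mul]
  have hup : ∀ {U : Subgroup N}, A ≤ normalizer (U.map N.subtype : Set X) →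
      A.subgroupOf N ≤ normalizer (U : Set N) := fun {U} h g hg =>
    Flavell42.mem_normalizer_of_forall fun x hx =>
      (mem_map_iff_mem hinj).1 (Flavell42.conj_mem (h hg) (mem_map_of_mem N.subtype hx))
  intro x hx b hb
  refine central_mod (Z := Z.subgroupOf N) (E := E.subgroupOf N) (M := M.subgroupOf N)
    (a := ⟨a, hAZ ha⟩) (p := p) hA' hact' (by rwa [hcard hMZ]) (fun z hz => hZE hz)
    (fun z hz => hEM hz) (hsub hME) (hsub hAE) ha ?_ ?_ ?_ ?_ ⟨x, hEN hx⟩ hx ⟨b, hAZ hb⟩ hb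
  · exact fun y hy c hc => hca y ⟨hy.1, hcen1.1 hy.2⟩ c hc
  · intro y hy
    have hle : M ⊓ centralizer {a} ≤
        (M.subgroupOf N ⊓ centralizer {(⟨a, hAZ ha⟩ : N)}).map N.subtype :=
      fun w hw => ⟨⟨w, hMZ hw.1⟩, ⟨hw.1, hcen1.2 hw.2⟩, rfl⟩
    have h1 := sup_le_sup hle (le_of_eq (by
      rw [← Flavell42.pInv_map_injective hact' _ hinj, hmA, hmM] :
        pInv p A M = (pInv p (A.subgroupOf N) (M.subgroupOf N)).map N.subtype)) (hM hy)
    rw [← Subgroup.map_sup] at h1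
    exact (mem_map_iff_mem hinj).1 h1
  · intro q _ U hU hUq hUn
    have h1 := hsol q (U.map N.subtype) (map_le_iff_le_comap.2 hU) (hUq.map _) (fun g hg => by
      have h2 := le_normalizer_map N.subtype ⟨⟨g, hEN hg⟩, hUn hg, rfl⟩
      rwa [Subgroup.map_sup, map_subgroupOf_eq_of_le hZN] at h2)
    exact fun u hu => h1 ⟨u, hu, rfl⟩
  · intro hU c hc
    have hU' : ∀ U ≤ E, IsPGroup p U → A ≤ normalizer (U : Set X) →
        E ⊓ centralizer (A : Set X) ≤ normalizer (U : Set X) → U ≤ Z := fun U h1 h2 h3 h4 u hu =>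
      hU (U.subgroupOf N) (fun w hw => h1 hw)
        (h2.of_equiv (subgroupOfEquivOfLe (h1.trans hEN)).symm) (hsub h3)
        (fun w hw => hsub (S := E ⊓ centralizer (A : Set X)) h4 ⟨hw.1, hcenA.1 hw.2⟩)
        (show (⟨u, hEN (h1 hu)⟩ : N) ∈ U.subgroupOf N from hu)
    obtain ⟨D, hDE, hAD, hCD, hD2, hd⟩ := hD hU' c (by
      rcases hc with rfl | ⟨t, rfl⟩
      · exact .inl rfl
      · exact .inr ⟨t, by simp [e', f']⟩)
    exact ⟨D.subgroupOf N, fun w hw => hDE hw, hsub hAD,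
      fun w hw => hsub (S := E ⊓ centralizer (A : Set X)) hCD ⟨hw.1, hcenA.1 hw.2⟩,
      fun d hd => hD2 d hd, fun y hy c' hc' => hd y ⟨hy.1, hcen1.1 hy.2⟩ c' hc'⟩

namespace Setup

variable {G A : Subgroup X} {a e f : X}
  {K : ∀ (X : Type u) [Group X], Subgroup X → Subgroup X}

/-- The inductive step. -/
theorem step (h : Setup p r G A e f) (hp2 : p ≠ 2) (hK : KFun p K) (ha : a ∈ A) (ha1 : a ≠ 1)
    {Q : Subgroup X} (hQ0 : pInv p A (cG G a) ≤ Q) (hQP : Q ≤ pInv p A G)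
    (hAQ : A ≤ normalizer (Q : Set X)) (hCQ : G ⊓ centralizer (A : Set X) ≤ normalizer (Q : Set X))
    (hGQ : cG G a ≤ normalizer (K X Q : Set X)) (hne : Q ≠ pInv p A G) :
    ∃ Q', Q < Q' ∧ pInv p A (cG G a) ≤ Q' ∧ Q' ≤ pInv p A G ∧ A ≤ normalizer (Q' : Set X) ∧
      G ⊓ centralizer (A : Set X) ≤ normalizer (Q' : Set X) ∧
      cG G a ≤ normalizer (K X Q' : Set X) := by
  have hr : r.Prime := Fact.out
  set P := pInv p A G with hP
  set Ga := cG G a with hGa
  set C := G ⊓ centralizer (A : Set X) with hC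
  have hPp : IsPGroup p P := Flavell42.isPGroup_pInv h.act
  have hPG : P ≤ G := Flavell42.pInv_le
  have hCP : C ≤ normalizer (P : Set X) := fun x hx =>
    Flavell42.centralizer_le_normalizer_pInv (le_normalizer hx.1) hx.2
  set NP := P ⊓ normalizer (Q : Set X) with hNP
  have hQNP : Q ≤ NP := le_inf hQP le_normalizer
  have hQlt : Q < NP := by
    refine lt_of_le_of_ne hQNP fun e0 => hne (le_antisymm hQP ?_)
    haveI := hPp.isNilpotent
    have h1 : normalizer (Q.subgroupOf P : Set P) ≤ Q.subgroupOf P := fun g hg => by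
      rw [mem_subgroupOf, e0]
      refine ⟨g.2, Flavell42.mem_normalizer_of_forall fun x hx => ?_⟩
      exact (mem_normalizer_iff.1 hg ⟨x, hQP hx⟩).1 hx
    by_contra hPQ
    exact (Group.normalizerCondition_of_isNilpotent (G := P) (Q.subgroupOf P)
      (lt_top_iff_ne_top.2 fun h2 => hPQ (subgroupOf_eq_top.1 h2))).not_ge h1
  have hANP : A ≤ normalizer (NP : Set X) := Coprime.le_normalizer_inf
    (Flavell42.act_le_normalizer_pInv h.act) (hAQ.trans le_normalizer)
  have hCNP : C ≤ normalizer (NP : Set X) :=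
    Coprime.le_normalizer_inf hCP (hCQ.trans le_normalizer)
  set M := Ga ⊔ NP with hMdef
  have hGaM : Ga ≤ M := le_sup_left
  have hNPM : NP ≤ M := le_sup_right
  have hMG : M ≤ G := sup_le inf_le_left (inf_le_left.trans hPG)
  have hAM : A ≤ normalizer (M : Set X) := Coprime.le_normalizer_sup (h.norm_cG ha) hANP
  have hact : Act A M := h.act.sub hMG hAM
  have hrM : ¬ r ∣ Nat.card M := fun hd => h.co (hd.trans (card_dvd_of_le hMG))
  have hCM : C ≤ M := (cen_le_cG ha).trans hGaM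
  have hMC : M ⊓ centralizer (A : Set X) ≤ C := inf_le_inf_right _ hMG
  set XK := K X Q with hXK
  have hXQ : XK ≤ Q := hK.le X Q
  have hXM : XK ≤ M := hXQ.trans (hQNP.trans hNPM)
  have hMX : M ≤ normalizer (XK : Set X) := sup_le hGQ (inf_le_right.trans (hK.normalizer_le Q))
  have hXp : IsPGroup p XK := hPp.to_le (hXQ.trans hQP)
  set Q' := pInv p A M with hQ'
  have hQ'p : IsPGroup p Q' := Flavell42.isPGroup_pInv hact
  have hAQ' : A ≤ normalizer (Q' : Set X) := Flavell42.act_le_normalizer_pInv hact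
  have hCQ' : C ≤ normalizer (Q' : Set X) := fun x hx =>
    Flavell42.centralizer_le_normalizer_pInv (le_normalizer (hCM hx)) hx.2
  have hNPQ' : NP ≤ Q' := Flavell42.le_pInv hact hNPM (hPp.to_le inf_le_left) hANP (hMC.trans hCNP)
  have hQ'P : Q' ≤ P := Flavell42.le_pInv h.act (Flavell42.pInv_le.trans hMG) hQ'p hAQ' hCQ'
  refine ⟨Q', hQlt.trans_le hNPQ', hQ0.trans (hQNP.trans hNPQ'), hQ'P, hAQ', hCQ', ?_⟩
  -- `O_{p'}(M)`
  set O := pPrimeIn p M with hO
  have hOp : ¬ p ∣ Nat.card O := not_dvd_pPrimeIn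
  have hMO : M ≤ normalizer (O : Set X) := le_normalizer.trans normalizer_le_normalizer_pPrimeIn
  have hAO : A ≤ normalizer (O : Set X) := hAM.trans normalizer_le_normalizer_pPrimeIn
  have hOM : O ≤ M := pPrimeIn_le
  have hOa : O ⊓ centralizer {a} ≤ centralizer (A : Set X) := by
    refine h.normal_pPrime_le ha ha1 (inf_le_inf_right _ (hOM.trans hMG)) ?_ ?_
      fun hd => hOp (hd.trans (card_dvd_of_le inf_le_left))
    · exact Coprime.le_normalizer_inf (hGaM.trans hMO) (inf_le_right.trans le_normalizer)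
    · exact Coprime.le_normalizer_inf hAO ((h.two.le_centralizer_singleton ha).trans le_normalizer)
  have hOA1 : O ⊓ centralizer (A : Set X) ≤ C := inf_le_inf_right _ (hOM.trans hMG)
  set OA := O ⊓ centralizer (A : Set X) with hOA
  have hcomOA : ∀ {S : Subgroup X}, IsPGroup p S → S ≤ M → C ≤ normalizer (S : Set X) →
      ∀ s ∈ S, ∀ x ∈ OA, s * x = x * s := by
    intro S hSp hSM hCS s hs x hx
    refine mul_inv_eq_iff_eq_mul.1 (mul_inv_eq_one.1
      (HHS57.eq_one_of_isPGroup_of_not_dvd Fact.out hSp ?_ fun hd =>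
        hOp (hd.trans (orderOf_dvd_natCard O ?_))))
    · rw [show s * x * s⁻¹ * x⁻¹ = s * (x * s⁻¹ * x⁻¹) by group]
      exact mul_mem hs (Flavell42.conj_mem (hCS (hOA1 hx)) (inv_mem hs))
    · exact mul_mem (Flavell42.conj_mem (hMO (hSM hs)) hx.1) (inv_mem hx.1)
  have hMOA : M ≤ normalizer (OA : Set X) := by
    refine sup_le (fun g hg => Flavell42.mem_normalizer_of_forall fun x hx => ?_) fun g hg =>
      Flavell42.mem_normalizer_of_forall fun x hx => ?_
    · have hxa : x ∈ centralizer {a} :=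
        centralizer_le (Set.singleton_subset_iff.2 ha) hx.2
      have h1 : g * x * g⁻¹ ∈ O := Flavell42.conj_mem (hGaM.trans hMO hg) hx.1
      exact ⟨h1, hOa ⟨h1, Subgroup.mul_mem _ (Subgroup.mul_mem _ hg.2 hxa) (Subgroup.inv_mem _ hg.2)⟩⟩
    · rwa [hcomOA (hPp.to_le inf_le_left) hNPM hCNP g hg x hx, mul_inv_cancel_right]
  -- the layer
  set E1 := eIn p M with hE1
  set Z := zeIn p M with hZ
  have hE1M : E1 ≤ M := eIn_le
  have hME : M ≤ normalizer (E1 : Set X) := le_normalizer.trans normalizer_le_normalizer_eIn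
  have hAE : A ≤ normalizer (E1 : Set X) := hAM.trans normalizer_le_normalizer_eIn
  have hMZ : M ≤ normalizer (Z : Set X) := le_normalizer.trans normalizer_le_normalizer_zeIn
  have hAZ : A ≤ normalizer (Z : Set X) := hAM.trans normalizer_le_normalizer_zeIn
  have hE1X : E1 ≤ centralizer (XK : Set X) := eIn_le_centralizer hXM hMX hXp
  have hXE : XK ⊓ E1 ≤ Z := le_zeIn_of_solvable inf_le_right (hXp.to_le inf_le_left)
    (fun g hg => (Coprime.le_normalizer_sup
      (Coprime.le_normalizer_inf (hE1M.trans hMX) le_normalizer) (hE1M.trans hMZ)) hg)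
  have hca : ∀ y ∈ E1 ⊓ centralizer {a}, ∀ b ∈ A, y⁻¹ * (b * y * b⁻¹) ∈ Z := by
    intro y hy b hb
    set Y := pCoreOf p Ga with hY
    set N0 := E1 ⊓ hIn p Ga with hN0
    have hyGa : y ∈ Ga := ⟨hMG (hE1M hy.1), hy.2⟩
    set d := y⁻¹ * (b * y * b⁻¹) with hd
    have hdN : d ∈ N0 := ⟨E1.mul_mem (E1.inv_mem hy.1) (Flavell42.conj_mem (hAE hb) hy.1),
      h.diff_mem_hIn ha ha1 hyGa hb⟩
    have hWX : Y ⊓ E1 ≤ XK ⊓ E1 := by
      refine le_inf ((le_inf (inf_le_left.trans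
        ((Flavell42.pCoreOf_le_pInv (h.act_cG ha)).trans hQ0)) ?_).trans
          (hK.cent X Q (hPp.to_le hQP))) inf_le_right
      exact inf_le_right.trans hE1X
    have hfix : ∀ v ∈ N0, ¬ p ∣ orderOf v →
        v ∈ centralizer (A : Set X) ∧ v ∈ centralizer (hIn p Ga : Set X) := by
      intro v hv hvp
      refine h.cen_of_centralizes ha ha1 hv.2 hvp fun z hz => ?_
      have hvGa : v ∈ Ga := hIn_le hv.2
      have hw : v * z * v⁻¹ * z⁻¹ ∈ Y ⊓ E1 :=
        ⟨Y.mul_mem (Flavell42.conj_mem (CosetGraph.SylowIn.le_normalizer_pCoreOf p _ hvGa) hz)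
          (Y.inv_mem hz), by
          rw [show v * z * v⁻¹ * z⁻¹ = v * (z * v⁻¹ * z⁻¹) by group]
          exact mul_mem hv.1 (Flavell42.conj_mem
            (hME (hGaM (CosetGraph.SylowIn.pCoreOf_le p _ hz))) (inv_mem hv.1))⟩
      exact eq_one_of_comm_pow hXp hvp (hWX hw).1
        (mem_centralizer_iff.1 (hE1X hv.1) _ (hWX hw).1).symm
    obtain ⟨u, hu, v, hv, huv⟩ := exists_decomp (p := p) (H := N0) (fun x hx => mem_center_iff.2
      fun g => Subtype.ext (mem_centralizer_iff.1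
        (hfix x x.2 (by rwa [Subgroup.orderOf_coe])).2 g g.2.2)) ⟨d, hdN⟩
    have huZ : (u : X) ∈ Z := by
      refine hXE (hWX ⟨?_, u.2.1⟩)
      refine Flavell42.pCoreOf_mono_normal (H := N0) (inf_le_right.trans hIn_le) ?_ ⟨u, hu, rfl⟩
      exact Coprime.le_normalizer_inf (hGaM.trans hME)
        (le_normalizer.trans normalizer_le_normalizer_hIn)
    have hvA : (v : X) ∈ centralizer (A : Set X) :=
      (hfix v v.2 (by rwa [Subgroup.orderOf_coe])).1
    have hvM : (v : X) ∈ M := hE1M v.2.1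
    have hduv : d = (u : X) * v := congrArg Subtype.val huv
    have hn : ∀ n : ℕ, ∃ z ∈ Z, b ^ n * y * (b ^ n)⁻¹ = y * (v : X) ^ n * z := by
      intro n
      induction n with
      | zero => exact ⟨1, one_mem _, by simp⟩
      | succ n ih =>
        obtain ⟨z, hz, ih⟩ := ih
        refine ⟨((v : X) ^ (n + 1))⁻¹ * u * (v : X) ^ (n + 1) * (b * z * b⁻¹), mul_mem ?_
          (Flavell42.conj_mem (hAZ hb) hz), ?_⟩
        · simpa using Flavell42.conj_mem (inv_mem (hMZ (pow_mem hvM (n + 1)))) huZ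
        · have hc : Commute b ((v : X) ^ n) :=
            (show Commute b (v : X) from mem_centralizer_iff.1 hvA b hb).pow_right n
          calc b ^ (n + 1) * y * (b ^ (n + 1))⁻¹ = b * (b ^ n * y * (b ^ n)⁻¹) * b⁻¹ := by
                rw [pow_succ']; group
            _ = y * d * (b * (v : X) ^ n * b⁻¹) * (b * z * b⁻¹) := by rw [ih, hd]; group
            _ = y * d * (v : X) ^ n * (b * z * b⁻¹) := by rw [hc.eq, mul_inv_cancel_right]
            _ = _ := by rw [hduv]; group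
    obtain ⟨z, hz, hrz⟩ := hn r
    rw [h.two.pow_eq_one hb, one_mul, inv_one, mul_one, mul_assoc, eq_comm, mul_eq_left] at hrz
    have hvr : (v : X) ^ r ∈ Z := by rw [eq_inv_of_mul_eq_one_left hrz]; exact inv_mem hz
    have hvZ : (v : X) ∈ Z := mem_of_pow_mem (k := 1) hr
      (fun hd' => hrM (hd'.trans (orderOf_dvd_natCard M hvM))) (by rwa [pow_one])
    rw [hduv]; exact mul_mem huZ hvZ
  have hAcen : ∀ x ∈ E1, ∀ b ∈ A, x⁻¹ * (b * x * b⁻¹) ∈ O := by
    have hZc := central_mod' (p := p) (a := a) h.two hact hrM zeIn_le_eIn hE1M hME hAE hMZ hAZ ha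
      hca
      (sup_le ((le_inf hGaM inf_le_right).trans le_sup_left) (hNPQ'.trans le_sup_right))
      (fun q _ U => le_zeIn_of_solvable) ?_
    · exact fun x hx b hb => comm_eIn_of_zeIn (hAO hb) (fun y hy => hZc y hy b hb) x hx
    intro hU c hc
    obtain ⟨a', ha', hc1, hcA, hgen⟩ : ∃ a' ∈ A, c ≠ 1 ∧ c ∈ A ∧ A ≤ closure {c, a'} := by
      rcases hc with rfl | ⟨t, rfl⟩
      · exact ⟨e, h.two.mem_e, h.fne, h.two.mem_f, by rw [h.two.hA, Set.pair_comm]⟩
      · refine ⟨f, h.two.mem_f, h.ene t, mul_mem h.two.mem_e (pow_mem h.two.mem_f t), ?_⟩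
        rw [h.two.hA, closure_le]
        rintro x (rfl | rfl)
        · have h1 := mul_mem (subset_closure (Set.mem_insert (x * f ^ t) {f}))
            (inv_mem (pow_mem (subset_closure (Set.mem_insert_of_mem (x * f ^ t)
              (Set.mem_singleton f))) t))
          rwa [mul_inv_cancel_right] at h1
        · exact subset_closure (Set.mem_insert_of_mem _ rfl)
    set Gc := cG G c with hGc
    set L := E1 ⊓ centralizer {c} with hL
    set D := cm (MulAut.conj a') L with hD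
    have hLGc : L ≤ Gc := inf_le_inf_right _ (hE1M.trans hMG)
    have hAL : A ≤ normalizer (L : Set X) := Coprime.le_normalizer_inf hAE
      ((h.two.le_centralizer_singleton hcA).trans le_normalizer)
    have hCL : E1 ⊓ centralizer (A : Set X) ≤ L :=
      inf_le_inf_left _ (centralizer_le (Set.singleton_subset_iff.2 hcA))
    have hAD : A ≤ normalizer (D : Set X) := fun g hg => Flavell42.mem_normalizer_of_forall
      fun x hx => HHS57.conj_mem_cm_of_fixed (show a' * g * a'⁻¹ = g by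
        rw [h.two.comm ha' hg, mul_inv_cancel_right])
        (fun z hz => Flavell42.conj_mem (hAL hg) hz) hx
    have hCD : E1 ⊓ centralizer (A : Set X) ≤ normalizer (D : Set X) := fun g hg =>
      Flavell42.mem_normalizer_of_forall fun x hx => HHS57.conj_mem_cm' (hCL hg) hx
    have hLD : ∀ x ∈ L, ∀ b ∈ A, x⁻¹ * (b * x * b⁻¹) ∈ D := by
      let S : Subgroup X :=
        { carrier := {b | b ∈ A ∧ ∀ x ∈ L, x⁻¹ * (b * x * b⁻¹) ∈ D}
          one_mem' := ⟨one_mem _, fun x _ => by simp [D.one_mem]⟩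
          mul_mem' := fun {b₁ b₂} h1 h2 => ⟨mul_mem h1.1 h2.1, fun x hx => by
            rw [show x⁻¹ * (b₁ * b₂ * x * (b₁ * b₂)⁻¹) = (x⁻¹ * (b₁ * x * b₁⁻¹)) *
              (b₁ * (x⁻¹ * (b₂ * x * b₂⁻¹)) * b₁⁻¹) by group]
            exact mul_mem (h1.2 x hx) (Flavell42.conj_mem (hAD h1.1) (h2.2 x hx))⟩
          inv_mem' := fun {b} h1 => ⟨inv_mem h1.1, fun x hx => by
            rw [show x⁻¹ * (b⁻¹ * x * b⁻¹⁻¹) = b⁻¹ * (x⁻¹ * (b * x * b⁻¹))⁻¹ * b⁻¹⁻¹ by group]
            exact Flavell42.conj_mem (hAD (inv_mem h1.1)) (inv_mem (h1.2 x hx))⟩ }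
      have hS : A ≤ S := by
        refine hgen.trans ((closure_le S).2 ?_)
        rintro b (rfl | rfl)
        · refine ⟨hcA, fun x hx => ?_⟩
          rw [← mem_centralizer_singleton_iff.1 hx.2, mul_inv_cancel_right, inv_mul_cancel]
          exact one_mem _
        · exact ⟨ha', fun x hx => mem_cm hx⟩
      exact fun x hx b hb => (hS hb).2 x hx
    refine ⟨D, (HHS57.cm_le fun x hx => Flavell42.conj_mem (hAL ha') hx).trans inf_le_left, hAD,
      hCD, ?_, hLD⟩
    set Y := pCoreOf p Gc with hY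
    have hYp : IsPGroup p Y := CosetGraph.SylowIn.isPGroup_pCoreOf p Gc
    have hGcY : Gc ≤ normalizer (Y : Set X) := CosetGraph.SylowIn.le_normalizer_pCoreOf p Gc
    have hY0 : Y ⊓ E1 ≤ Z := hU _ inf_le_right (hYp.to_le inf_le_left)
      (Coprime.le_normalizer_inf ((h.norm_cG hcA).trans Flavell42.normalizer_le_normalizer_pCoreOf)
        hAE)
      (Coprime.le_normalizer_inf (hCL.trans (hLGc.trans hGcY)) (inf_le_left.trans le_normalizer))
    have hDH : D ≤ hIn p Gc :=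
      HHS57.cm_le_iff.2 fun x hx => h.diff_mem_hIn hcA hc1 (hLGc hx) ha'
    refine twoPart Fact.out hp2 hr (h.two.pow_eq_one ha') (hAL ha')
      (Flavell42.normalizer_le_normalizer_pCoreOf (h.norm_cG hcA ha')) (hLGc.trans hGcY)
      (inf_le_left.trans (hE1M.trans hMZ)) (hAZ ha')
      (fun hd => hrM (hd.trans (card_dvd_of_le (inf_le_left.trans hE1M))))
      (fun hd => h.co (hd.trans (card_dvd_of_le
        ((CosetGraph.SylowIn.pCoreOf_le p _).trans inf_le_left)))) hYp ?_ ?_ ?_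
    · intro d hd hdp y hy hay
      have hyc : y ∈ centralizer {c} := (CosetGraph.SylowIn.pCoreOf_le p Gc hy).2
      have hyA : y ∈ C := by
        refine ⟨(CosetGraph.SylowIn.pCoreOf_le p Gc hy).1, ?_⟩
        have hle : closure {c, a'} ≤ centralizer {y} := by
          rw [closure_le]
          rintro b (rfl | rfl)
          · exact mem_centralizer_singleton_iff.2 (mem_centralizer_singleton_iff.1 hyc).symm
          · exact mem_centralizer_singleton_iff.2 hay
        exact mem_centralizer_iff.2 fun b hb => mem_centralizer_singleton_iff.1 (hle (hgen hb))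
      have hw1 : d * y * d⁻¹ * y⁻¹ ∈ Y :=
        mul_mem (Flavell42.conj_mem (hLGc.trans hGcY hd) hy) (inv_mem hy)
      have hw2 : d * y * d⁻¹ * y⁻¹ ∈ E1 := by
        rw [show d * y * d⁻¹ * y⁻¹ = d * (y * d⁻¹ * y⁻¹) by group]
        exact mul_mem hd.1 (Flavell42.conj_mem (hME (hCM hyA)) (inv_mem hd.1))
      have h0 := HHS57.eq_one_of_isPGroup_of_not_dvd Fact.out hYp
        (x := d * (d * y * d⁻¹ * y⁻¹) * d⁻¹ * (d * y * d⁻¹ * y⁻¹)⁻¹)
        (mul_mem (Flavell42.conj_mem (hLGc.trans hGcY hd) hw1) (inv_mem hw1))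
        fun hd' => hOp (hd'.trans (orderOf_dvd_natCard O
          (comm_mem_pPrimeIn hd.1 (hY0 ⟨hw1, hw2⟩))))
      exact eq_one_of_comm_pow hYp hdp hw1 (mul_inv_eq_iff_eq_mul.1 (mul_inv_eq_one.1 h0))
    · intro d hd hdp hcY
      obtain ⟨h1, h2⟩ := h.cen_of_centralizes hcA hc1 (hDH hd) hdp hcY
      exact ⟨mem_centralizer_iff.1 h1 a' ha', fun x hx =>
        (mem_centralizer_iff.1 h2 x (hDH hx)).symm⟩
    · intro U hUL hLU haU hUp
      refine hU U (hUL.trans inf_le_left) hUp (hgen.trans ((closure_le _).2 ?_)) (hCL.trans hLU)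
      rintro b (rfl | rfl)
      · refine Flavell42.mem_normalizer_of_forall fun x hx => ?_
        rwa [← mem_centralizer_singleton_iff.1 (hUL hx).2, mul_inv_cancel_right]
      · exact haU
  -- the constrained normal subgroup
  have hAT : A ≤ cenMod E1 O := fun b hb => ⟨hAO hb, hAE hb, fun y hy => by
    have h1 := Flavell42.conj_mem (hMO (hE1M hy)) (hAcen y hy b hb)
    rwa [show y * (y⁻¹ * (b * y * b⁻¹)) * y⁻¹ = b * y * b⁻¹ * y⁻¹ by group] at h1⟩
  set H := M ⊓ (centralizer (OA : Set X) ⊓ cenMod E1 O) with hH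
  have hnC : ∀ {S : Subgroup X}, S ≤ normalizer (OA : Set X) →
      S ≤ normalizer (centralizer (OA : Set X) : Set X) := fun {S} hS g hg =>
    Flavell42.mem_normalizer_of_forall fun x hx => mem_centralizer_iff.2 fun z hz => by
      have h1 := Flavell42.conj_mem (inv_mem (hS hg)) hz
      rw [inv_inv] at h1
      have := mem_centralizer_iff.1 hx _ h1
      calc z * (g * x * g⁻¹) = g * (g⁻¹ * z * g * x) * g⁻¹ := by group
        _ = g * (x * (g⁻¹ * z * g)) * g⁻¹ := by rw [this]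
        _ = g * x * g⁻¹ * z := by group
  have hMH : M ≤ normalizer (H : Set X) := Coprime.le_normalizer_inf le_normalizer
    (Coprime.le_normalizer_inf (hnC hMOA) (le_normalizer_cenMod hME hMO))
  have hAH : A ≤ normalizer (H : Set X) := Coprime.le_normalizer_inf hAM
    (Coprime.le_normalizer_inf (hnC (Coprime.le_normalizer_inf hAO
      ((le_centralizer_iff.2 le_rfl).trans (centralizer_le_normalizer _)))) (le_normalizer_cenMod hAE hAO))
  have hHM : H ≤ M := inf_le_left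
  have hQ'H : Q' ≤ H := by
    intro x hx
    have hxM : x ∈ M := Flavell42.pInv_le hx
    refine ⟨hxM, mem_centralizer_iff.2 fun z hz =>
      (hcomOA hQ'p Flavell42.pInv_le hCQ' x hx z hz).symm, hMO hxM, hME hxM, fun y hy => ?_⟩
    have hE1C : E1 ≤ (E1 ⊓ centralizer (A : Set X)) ⊔ Z := fun z hz => by
      obtain ⟨n, hn, hzn⟩ := Coprime.exists_mul_fixed hAO
        (hact.cop.coprime_dvd_right (card_dvd_of_le hOM)) (.inl h.two.solvable) (hAcen z hz)
      rw [show z = z * n * n⁻¹ by group]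
      exact mul_mem (mem_sup_left ⟨mul_mem hz (zeIn_le_eIn (pPrimeIn_le_zeIn hn)), hzn⟩)
        (mem_sup_right (inv_mem (pPrimeIn_le_zeIn hn)))
    set U := Q' ⊓ E1 with hU
    have hCE : E1 ⊓ centralizer (A : Set X) ≤ C := inf_le_inf_right _ (hE1M.trans hMG)
    have hUZ : U ≤ Z := le_zeIn_of_solvable inf_le_right (hQ'p.to_le inf_le_left)
      (hE1C.trans (sup_le (Coprime.le_normalizer_sup
        (Coprime.le_normalizer_inf (hCE.trans hCQ') (inf_le_left.trans le_normalizer))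
        (inf_le_left.trans (hE1M.trans hMZ))) (le_sup_right.trans le_normalizer)))
    have key : ∀ z ∈ E1, z⁻¹ * (x * z * x⁻¹) ∈ Z := fun z hz => by
      obtain ⟨n, hn, hzn⟩ := Coprime.exists_mul_fixed hAO
        (hact.cop.coprime_dvd_right (card_dvd_of_le hOM)) (.inl h.two.solvable) (hAcen z hz)
      set z0 := z * n
      have hz0 : z0 ∈ E1 := mul_mem hz (zeIn_le_eIn (pPrimeIn_le_zeIn hn))
      have h1 : z0⁻¹ * (x * z0 * x⁻¹) ∈ U := by
        refine ⟨?_, E1.mul_mem (E1.inv_mem hz0) (Flavell42.conj_mem (hME hxM) hz0)⟩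
        rw [show z0⁻¹ * (x * z0 * x⁻¹) = z0⁻¹ * x * z0⁻¹⁻¹ * x⁻¹ by group]
        exact Q'.mul_mem (Flavell42.conj_mem (inv_mem (hCQ' (hCE ⟨hz0, hzn⟩))) hx) (Q'.inv_mem hx)
      rw [show z⁻¹ * (x * z * x⁻¹) = n * (z0⁻¹ * (x * z0 * x⁻¹)) * (x * n⁻¹ * x⁻¹) by
        simp only [z0]; group]
      exact mul_mem (mul_mem (pPrimeIn_le_zeIn hn) (hUZ h1))
        (pPrimeIn_le_zeIn (Flavell42.conj_mem (hMO hxM) (inv_mem hn)))
    have h2 := Flavell42.conj_mem (hMO (hE1M hy)) (comm_eIn_of_zeIn (hMO hxM) key y hy)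
    rwa [show y * (y⁻¹ * (x * y * x⁻¹)) * y⁻¹ = x * y * x⁻¹ * y⁻¹ by group] at h2
  have hMJ : M ≤ normalizer (jIn p M : Set X) := le_normalizer.trans normalizer_le_normalizer_jIn
  have hnK := normK hK hr (h.two.pow_eq_one ha) ha (hact.sub hHM hAH)
    (fun hd => hrM (hd.trans (card_dvd_of_le hHM))) (O := O ⊓ H) (J := jIn p M ⊓ H) inf_le_right
    (Coprime.le_normalizer_inf (hHM.trans hMO) le_normalizer)
    (Coprime.le_normalizer_inf hAO hAH) (fun hd => hOp (hd.trans (card_dvd_of_le inf_le_left)))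
    (fun x hx => mem_centralizer_iff.2 fun z hz =>
      (mem_centralizer_iff.1 hz.2.1 x ⟨hx.1.1, hx.2⟩).symm)
    (fun x hx => hOa ⟨hx.1.1, hx.2⟩) inf_le_right
    (Coprime.le_normalizer_inf (hHM.trans hMJ) le_normalizer)
    (fun y hy => by
      obtain ⟨k, hk⟩ := jIn_pow hy.1
      exact ⟨k, hk, pow_mem hy.2 _⟩)
    (fun x hx hcop hxJ => by
      have hxp : ¬ p ∣ orderOf x := fun hd => (Fact.out : p.Prime).not_dvd_one
        (hcop ▸ Nat.dvd_gcd hd dvd_rfl)
      refine ⟨mem_pPrimeIn_of_centralizes (hHM hx) hxp hx.2.2.2.2 fun y hy => ?_, hx⟩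
      have hyM : y ∈ M := jIn_le hy
      set x' : ↥M := ⟨x, hHM hx⟩
      have hwH : x * y * x⁻¹ * y⁻¹ ∈ H := by
        rw [show x * y * x⁻¹ * y⁻¹ = x * (y * x⁻¹ * y⁻¹) by group]
        exact mul_mem hx (Flavell42.conj_mem (hMH hyM) (inv_mem hx))
      have hw := hxJ _ ⟨(jIn p M).mul_mem (Flavell42.conj_mem (hMJ (hHM hx)) hy)
        ((jIn p M).inv_mem hy), hwH⟩
      obtain ⟨y₀, hy₀, hy₀e⟩ := hy
      have h3 : qM p M x' * qM p M y₀ * (qM p M x')⁻¹ * (qM p M y₀)⁻¹ ∈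
          pCore p (↥M ⧸ pPrimeCore p ↥M) :=
        mul_mem ((inferInstance : (pCore p (↥M ⧸ pPrimeCore p ↥M)).Normal).conj_mem _ hy₀ _)
          (inv_mem hy₀)
      have h4 := (mem_pPrimeIn (x := x' * (x' * y₀ * x'⁻¹ * y₀⁻¹) * x'⁻¹ *
        (x' * y₀ * x'⁻¹ * y₀⁻¹)⁻¹)).1 (by rw [← hy₀e] at hw; exact hw.1)
      have h5 := eq_one_of_comm_pow (Cores.pCore_isPGroup p)
        (fun hd => hxp ((Subgroup.orderOf_coe x' ▸ hd.trans (orderOf_map_dvd (qM p M) x') :
          p ∣ orderOf (x' : X)))) h3 (by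
          simp only [map_mul, map_inv] at h4
          exact mul_inv_eq_iff_eq_mul.1 (mul_inv_eq_one.1 h4))
      rw [← hy₀e]
      refine (mem_pPrimeIn (x := x' * y₀ * x'⁻¹ * y₀⁻¹)).2 ?_
      rw [map_mul, map_mul, map_mul, map_inv, map_inv, h5, mul_inv_cancel_right, mul_inv_cancel])
  rw [Flavell42.pInv_eq_inf hact hHM hAH hMH, ← hQ', inf_eq_left.2 hQ'H] at hnK
  intro g hg
  have hGaH : A ≤ normalizer ((Ga ⊓ H : Subgroup X) : Set X) :=
    Coprime.le_normalizer_inf (h.norm_cG ha) hAH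
  obtain ⟨n, hn, hgn⟩ := Coprime.exists_mul_fixed hGaH
    (hact.cop.coprime_dvd_right (card_dvd_of_le (inf_le_left.trans hGaM))) (.inl h.two.solvable)
    (k := g) fun b hb => by
      have hgM : g ∈ M := hGaM hg
      have h1 : g⁻¹ * (b * g * b⁻¹) ∈ Ga :=
        mul_mem (inv_mem hg) (Flavell42.conj_mem (h.norm_cG ha hb) hg)
      refine ⟨h1, hGaM h1, mem_centralizer_iff.2 fun z hz => ?_, ?_⟩
      · have hz' : g * z * g⁻¹ ∈ OA := Flavell42.conj_mem (hMOA hgM) hz
        have c1 := mem_centralizer_iff.1 hz'.2 b hb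
        have c2 : Commute b z := mem_centralizer_iff.1 hz.2 b hb
        calc z * (g⁻¹ * (b * g * b⁻¹)) = g⁻¹ * (g * z * g⁻¹ * b) * g * b⁻¹ := by group
          _ = g⁻¹ * (b * (g * z * g⁻¹)) * g * b⁻¹ := by rw [c1]
          _ = g⁻¹ * (b * g) * (z * b⁻¹) := by group
          _ = g⁻¹ * (b * g) * (b⁻¹ * z) := by rw [c2.inv_left.eq]
          _ = g⁻¹ * (b * g * b⁻¹) * z := by group
      · rw [show g⁻¹ * (b * g * b⁻¹) = g⁻¹ * b * g⁻¹⁻¹ * b⁻¹ by group]
        exact (cenMod E1 O).mul_mem (Flavell42.conj_mem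
          (inv_mem (le_normalizer_cenMod hME hMO hgM)) (hAT hb)) ((cenMod E1 O).inv_mem (hAT hb))
  rw [show g = g * n * n⁻¹ by group]
  exact mul_mem (hK.normalizer_le Q' (hCQ' ⟨mul_mem hg.1 hn.1.1, hgn⟩))
    (inv_mem (hnK ⟨hn.2, hn.1.2⟩))

/-- `C_G(a)` normalises the image of `pInv p A G`. -/
theorem climb (h : Setup p r G A e f) (hp2 : p ≠ 2) (hK : KFun p K) (ha : a ∈ A) (ha1 : a ≠ 1) :
    cG G a ≤ normalizer (K X (pInv p A G) : Set X) := by
  set Q0 := pInv p A (cG G a) with hQ0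
  have hact := h.act_cG ha
  have hC0 : G ⊓ centralizer (A : Set X) ≤ normalizer (Q0 : Set X) := fun x hx =>
    Flavell42.centralizer_le_normalizer_pInv (le_normalizer (cen_le_cG ha hx)) hx.2
  have hA0 : A ≤ normalizer (Q0 : Set X) := Flavell42.act_le_normalizer_pInv hact
  have hQ0P : Q0 ≤ pInv p A G := Flavell42.le_pInv h.act (Flavell42.pInv_le.trans inf_le_left)
    (Flavell42.isPGroup_pInv hact) hA0 hC0
  obtain ⟨Q, ⟨h1, h2, h3, h4, h5⟩, hmax⟩ := wellFounded_gt.has_min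
    {Q : Subgroup X | Q0 ≤ Q ∧ Q ≤ pInv p A G ∧ A ≤ normalizer (Q : Set X) ∧
      G ⊓ centralizer (A : Set X) ≤ normalizer (Q : Set X) ∧
      cG G a ≤ normalizer (K X Q : Set X)}
    ⟨Q0, le_rfl, hQ0P, hA0, hC0, h.initial hK ha ha1⟩
  by_cases hne : Q = pInv p A G
  · exact hne ▸ h5
  · obtain ⟨Q', hlt, hQ'⟩ := h.step hp2 hK ha ha1 h1 h2 h3 h4 h5 hne
    exact absurd hlt (hmax Q' hQ')

end Setup

end Cfsg.Agent.Lib.Flavell57
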