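import Cfsg.Prelude.Def_OddOrderLocal
import Cfsg.Agent.Lib.Flavell42.PInv
import Cfsg.Agent.Lib.CharP.FStar
import Cfsg.Agent.Lib.FStarTools.Basic
import Cfsg.Agent.Lib.HHS57.Cfg

/-!
# Coprime action of a group of order `r ^ 2` and the local residual layers (helper57)

`zIn p H` is the join of the layer of `H` with the `p'`-elements of `F(H)`, `hIn p H` its
centraliser in `H`.  An element of `hIn p H` of order prime to `p` centralising `O_p(H)` lies in
`zIn p H`.
-/

set_option autoImplicit false
set_option linter.style.haveILetI false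
set_option linter.unusedSectionVars false

namespace Cfsg.Agent.Lib.Flavell57

open Cfsg Cfsg.Agent.Lib
open Cfsg.Agent.Lib.FpfAut (exists_fixed_mul)
open Subgroup

universe u

variable {X : Type u} [Group X]

/-- `x` and `z = x⁻¹ a x a⁻¹`: if `z` commutes with `a` and has order prime to that of `a`, then
`a` commutes with `x`. -/
theorem commute_of_comm_diff {r : ℕ} (hr : r.Prime) {a x : X} (ha : a ^ r = 1)
    (hz : a * (x⁻¹ * (a * x * a⁻¹)) = x⁻¹ * (a * x * a⁻¹) * a)
    (hco : ¬ r ∣ orderOf (x⁻¹ * (a * x * a⁻¹))) : a * x = x * a := by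
  set z := x⁻¹ * (a * x * a⁻¹) with hzdef
  have hstep : ∀ n : ℕ, a ^ n * x * (a ^ n)⁻¹ = x * z ^ n := by
    intro n
    induction n with
    | zero => simp
    | succ n ih =>
      have hc : a * z ^ n * a⁻¹ = z ^ n := by
        have := (show Commute a z from hz).pow_right n
        rw [this.eq, mul_inv_cancel_right]
      calc a ^ (n + 1) * x * (a ^ (n + 1))⁻¹ = a * (a ^ n * x * (a ^ n)⁻¹) * a⁻¹ := by
            rw [pow_succ']; group
        _ = a * (x * z ^ n) * a⁻¹ := by rw [ih]
        _ = a * x * a⁻¹ * (a * z ^ n * a⁻¹) := by group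
        _ = x * z * z ^ n := by rw [hc, hzdef]; group
        _ = x * z ^ (n + 1) := by rw [pow_succ']; group
  have h1 : z ^ r = 1 := by
    have := hstep r
    rw [ha] at this
    simpa using this.symm
  have h2 : z = 1 := by
    rcases hr.eq_one_or_self_of_dvd _ (orderOf_dvd_of_pow_eq_one h1) with h | h
    · exact orderOf_eq_one_iff.1 h
    · exact absurd (h ▸ dvd_rfl) hco
  rw [hzdef, inv_mul_eq_one] at h2
  exact mul_inv_eq_iff_eq_mul.1 h2.symm

variable [Finite X]

/-- A coset of an invariant subgroup stabilised by `a` contains an element commuting with `a`. -/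
theorem exists_mul_commute {r : ℕ} (hr : r.Prime) {a x : X} (ha : a ^ r = 1) {N : Subgroup X}
    (hN : ∀ y ∈ N, a * y * a⁻¹ ∈ N) (hco : ¬ r ∣ Nat.card N) (hx : x⁻¹ * (a * x * a⁻¹) ∈ N) :
    ∃ m ∈ N, a * (x * m) = x * m * a := by
  obtain ⟨d, hd, hf⟩ := exists_fixed_mul (β := MulAut.conj a) hr (by rw [← map_pow, ha, map_one]) hN hco hx
  exact ⟨d, hd, mul_inv_eq_iff_eq_mul.1 hf⟩

/-- The layer of `H`. -/
def layIn (H : Subgroup X) : Subgroup X := (layer ↥H).map H.subtype

/-- The subgroup generated by the elements of order prime to `p` of `F(H)`. -/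
def fpSub (p : ℕ) (H : Type u) [Group H] : Subgroup H :=
  closure {x : H | x ∈ fittingSubgroup H ∧ (orderOf x).Coprime p}

/-- `zIn p H` is the join of the layer of `H` and `fpSub`. -/
def zIn (p : ℕ) (H : Subgroup X) : Subgroup X := (layer ↥H ⊔ fpSub p ↥H).map H.subtype

/-- The centraliser of `zIn p H` in `H`. -/
def hIn (p : ℕ) (H : Subgroup X) : Subgroup X := H ⊓ centralizer (zIn p H : Set X)

variable {p : ℕ} {H : Subgroup X}

theorem zIn_le : zIn p H ≤ H := map_subtype_le _

theorem hIn_le : hIn p H ≤ H := inf_le_left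

instance fpSub_characteristic (H : Type u) [Group H] [Finite H] : (fpSub p H).Characteristic := by
  haveI : (fittingSubgroup H).Characteristic :=
    Subgroup.characteristic_iff_map_eq.mpr fun e => Cores.map_fittingSubgroup_equiv e
  refine characteristic_iff_map_le.mpr fun φ => ?_
  rw [fpSub, map_le_iff_le_comap, closure_le]
  rintro x ⟨hx, hc⟩
  refine subset_closure ⟨?_, ?_⟩
  · exact characteristic_iff_map_le.mp ‹_› φ ⟨x, hx, rfl⟩
  · show (orderOf (φ x)).Coprime p
    rwa [MulEquiv.orderOf_eq]

theorem normalizer_le_normalizer_zIn [Fact p.Prime] :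
    normalizer (H : Set X) ≤ normalizer (zIn p H : Set X) := by
  haveI : (layer ↥H ⊔ fpSub p ↥H).Characteristic := by
    refine characteristic_iff_map_le.mpr fun φ => ?_
    rw [Subgroup.map_sup]
    exact sup_le_sup (characteristic_iff_map_le.mp inferInstance φ)
      (characteristic_iff_map_le.mp inferInstance φ)
  exact CharP.normalizer_le_normalizer_map_char _

theorem normalizer_le_normalizer_hIn [Fact p.Prime] :
    normalizer (H : Set X) ≤ normalizer (hIn p H : Set X) := by
  intro g hg
  have key : ∀ k ∈ normalizer (H : Set X), ∀ x ∈ hIn p H, k * x * k⁻¹ ∈ hIn p H := by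
    rintro k hk x ⟨hx, hc⟩
    refine ⟨(mem_normalizer_iff.1 hk x).1 hx, mem_centralizer_iff.2 fun z hz => ?_⟩
    have hz' := (mem_normalizer_iff.1 (inv_mem (normalizer_le_normalizer_zIn (p := p) hk)) z).1 hz
    rw [inv_inv] at hz'
    have := mem_centralizer_iff.1 hc _ hz'
    calc z * (k * x * k⁻¹) = k * (k⁻¹ * z * k * x) * k⁻¹ := by group
      _ = k * (x * (k⁻¹ * z * k)) * k⁻¹ := by rw [this]
      _ = k * x * k⁻¹ * z := by group
  refine mem_normalizer_iff.2 fun x => ⟨key g hg x, fun h => ?_⟩
  have := key g⁻¹ (inv_mem hg) _ h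
  simpa [mul_assoc] using this

/-- An element of order prime to `p` of `hIn` centralising `O_p(H)` lies in `zIn`. -/
theorem mem_zIn_of_centralizes [hp : Fact p.Prime] {d : X} (hd : d ∈ hIn p H) (hord : (orderOf d).Coprime p)
    (hc : ∀ y ∈ pCoreOf p H, d * y = y * d) : d ∈ zIn p H := by
  obtain ⟨hdH, hdz⟩ := hd
  set d0 : ↥H := ⟨d, hdH⟩ with hd0
  have hord0 : (orderOf d0).Coprime p := by rwa [← Subgroup.orderOf_coe]
  have hZ : ∀ z ∈ layer ↥H ⊔ fpSub p ↥H, z * d0 = d0 * z := fun z hz =>
    Subtype.ext (mem_centralizer_iff.1 hdz _ ⟨z, hz, rfl⟩)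
  have hF : d0 ∈ centralizer (generalizedFittingSubgroup ↥H : Set ↥H) := by
    have hle : generalizedFittingSubgroup ↥H ≤ centralizer {d0} := by
      refine sup_le (fun z hz => mem_centralizer_singleton_iff.2 (hZ z (mem_sup_left hz))) ?_
      intro x hx
      -- split `x` into its `p`-part and its `p'`-part
      set o := orderOf x with ho
      have ho0 : o ≠ 0 := (orderOf_pos x).ne'
      set k := o.factorization p with hk
      set m := o / p ^ k with hm
      have hkm : p ^ k * m = o := Nat.ordProj_mul_ordCompl_eq_self o p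
      have hmp : m.Coprime p := ((hp.out.coprime_iff_not_dvd).2
        (Nat.not_dvd_ordCompl hp.out ho0)).symm
      have hu : x ^ p ^ k ∈ centralizer {d0} := by
        refine mem_centralizer_singleton_iff.2 (hZ _ (mem_sup_right (subset_closure
          ⟨pow_mem hx _, ?_⟩)))
        refine Nat.Coprime.coprime_dvd_left (orderOf_dvd_of_pow_eq_one ?_) hmp
        rw [← pow_mul, hkm, ho, pow_orderOf_eq_one]
      have hv : x ^ m ∈ centralizer {d0} := by
        refine mem_centralizer_singleton_iff.2 ?_
        haveI := Cores.fittingSubgroup_isNilpotent (G := ↥H)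
        haveI : (fittingSubgroup ↥H).Characteristic :=
          Subgroup.characteristic_iff_map_eq.mpr fun e => Cores.map_fittingSubgroup_equiv e
        have hv1 : (x ^ m) ^ p ^ k = 1 := by
          rw [← pow_mul, mul_comm, hkm, ho, pow_orderOf_eq_one]
        set v : fittingSubgroup ↥H := ⟨x ^ m, pow_mem hx _⟩ with hv
        have hvp : IsPGroup p (zpowers v) := by
          refine IsPGroup.iff_card.2 ?_
          rw [Nat.card_zpowers]
          obtain ⟨i, -, hi⟩ := (Nat.dvd_prime_pow hp.out).1 (orderOf_dvd_of_pow_eq_one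
            (show v ^ p ^ k = 1 from Subtype.ext hv1))
          exact ⟨i, hi⟩
        obtain ⟨P, hP⟩ := hvp.exists_le_sylow
        haveI := Sylow.normal_of_normalizerCondition Group.normalizerCondition_of_isNilpotent P
        haveI := Sylow.characteristic_of_normal P inferInstance
        haveI : ((P : Subgroup (fittingSubgroup ↥H)).map (fittingSubgroup ↥H).subtype).Normal :=
          Cores.normal_map_subtype _ _
        have hmem : x ^ m ∈ pCore p ↥H :=
          Cores.le_pCore (P.isPGroup'.map (fittingSubgroup ↥H).subtype) ⟨v, hP (mem_zpowers v), rfl⟩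
        exact Subtype.ext (hc _ ⟨_, hmem, rfl⟩).symm
      have hx1 : x ^ Nat.gcd (p ^ k) m = x := by
        rw [(Nat.Coprime.pow_left k hmp.symm), pow_one]
      rw [← hx1, ← zpow_natCast, Nat.gcd_eq_gcd_ab, zpow_add, zpow_mul, zpow_mul, zpow_natCast,
        zpow_natCast]
      exact mul_mem (zpow_mem hu _) (zpow_mem hv _)
    exact mem_centralizer_iff.2 fun x hx => mem_centralizer_singleton_iff.1 (hle hx)
  exact ⟨d0, mem_sup_right (subset_closure ⟨FStarTools.center_genFitting_le hF, hord0⟩), rfl⟩

end Cfsg.Agent.Lib.Flavell57
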