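import Cfsg.Agent.Lib.Flavell57.Main
import Cfsg.Agent.Lib.Flavell42.Functor

/-!
# The functor used for coprime action (helper57)
-/

set_option autoImplicit false

namespace Cfsg.Agent.Lib.Flavell57

open Cfsg Cfsg.Agent.Lib
open Cfsg.Agent.Lib.Flavell42 (pInv Act eFun)
open Subgroup

universe u

variable {p : ℕ} [Fact p.Prime]

/-- `eFun` satisfies `KFun` once it is normalised in the constrained case. -/
theorem kFun_eFun
    (hmain : ∀ (X : Type u) [Group X] [Finite X] (R G : Subgroup X), Act R G →
      G ⊓ centralizer (pCoreOf p G : Set X) ≤ pCoreOf p G →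
      G ≤ normalizer (eFun (pInv p R G) : Set X)) :
    KFun.{u} p (fun X _ P => eFun P) where
  le := fun X _ _ P => Flavell42.eFun_le
  map := fun X Y _ _ _ _ f hf P => Flavell42.map_eFun f hf P
  cent := fun X _ _ P hP => Flavell42.centralizer_inf_le_eFun hP
  main := fun X _ _ R G => hmain X R G

end Cfsg.Agent.Lib.Flavell57
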