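import Cfsg.Agent.Lib.Flavell57.Loc

/-!
# The layer modulo `O_{p'}` (helper57)

For a subgroup `M`, `eIn p M` is the preimage of the layer of `M / O_{p'}(M)`, `zeIn p M` that of
the centre of this layer and `jIn p M` that of `O_p(M / O_{p'}(M))`.
-/

set_option autoImplicit false
set_option linter.style.haveILetI false
set_option linter.unusedSectionVars false

namespace Cfsg.Agent.Lib.Flavell57

open Cfsg Cfsg.Agent.Lib
open Subgroup
open scoped commutatorElement

universe u

/-- Preimages of characteristic subgroups modulo a characteristic subgroup. -/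
theorem characteristic_comap_mk' {G : Type u} [Group G] (N : Subgroup G) [N.Characteristic]
    (C : Subgroup (G ⧸ N)) [hC : C.Characteristic] :
    (C.comap (QuotientGroup.mk' N)).Characteristic := by
  refine characteristic_iff_map_le.2 fun φ => ?_
  rintro _ ⟨x, hx, rfl⟩
  exact characteristic_iff_map_le.1 hC
    (QuotientGroup.congr N N φ (characteristic_iff_map_eq.1 inferInstance φ)) ⟨_, hx, rfl⟩

/-- In a group equal to its layer solvable normal subgroups are central. -/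
theorem le_center_of_layer {L : Type u} [Group L] [Finite L] (hL : layer L = ⊤) (N : Subgroup L)
    [N.Normal] (hN : Group.IsSolvable N) : N ≤ center L := by
  haveI := hN
  have h1 : layer L ≤ centralizer (N : Set L) := sSup_le fun K hK =>
    le_centralizer_iff.1 (commutator_eq_bot_iff_le_centralizer.1
      (Components.Component.commutator_eq_bot_of_isSolvable hK
        (Normal.isSubnormal (inferInstance : N.Normal))))
  intro x hx
  refine mem_center_iff.2 fun g => ?_
  exact (mem_centralizer_iff.1 (h1 (hL ▸ mem_top g)) x hx).symm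

theorem layer_layer (G : Type u) [Group G] [Finite G] : layer ↥(layer G) = ⊤ := by
  refine map_injective (layer G).subtype_injective ?_
  rw [FStarTools.map_layer_subnormal (Normal.isSubnormal inferInstance), ← MonoidHom.range_eq_map,
    range_subtype]
  exact le_antisymm (sSup_le fun K hK => hK.2)
    (sSup_le fun K hK => le_sSup ⟨hK, Components.Layer.component_le_layer hK⟩)

variable {X : Type u} [Group X] [Finite X] (p : ℕ) (M : Subgroup X)

/-- The quotient map. -/
abbrev qM : ↥M →* ↥M ⧸ pPrimeCore p ↥M := QuotientGroup.mk' _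

/-- The preimage of the layer. -/
def eIn : Subgroup X := ((layer (↥M ⧸ pPrimeCore p ↥M)).comap (qM p M)).map M.subtype

/-- The preimage of the centre of the layer. -/
def zeIn : Subgroup X :=
  (((center ↥(layer (↥M ⧸ pPrimeCore p ↥M))).map (layer (↥M ⧸ pPrimeCore p ↥M)).subtype).comap
    (qM p M)).map M.subtype

/-- The preimage of `O_p`. -/
def jIn : Subgroup X := ((pCore p (↥M ⧸ pPrimeCore p ↥M)).comap (qM p M)).map M.subtype

variable {p M}

theorem mem_pPrimeIn {x : ↥M} : (x : X) ∈ pPrimeIn p M ↔ qM p M x = 1 := by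
  rw [qM, QuotientGroup.mk'_apply, QuotientGroup.eq_one_iff]
  exact mem_map_iff_mem M.subtype_injective

theorem eIn_le : eIn p M ≤ M := map_subtype_le _

theorem zeIn_le_eIn : zeIn p M ≤ eIn p M := map_mono (comap_mono (map_subtype_le _))

theorem jIn_le : jIn p M ≤ M := map_subtype_le _

theorem pPrimeIn_le_zeIn : pPrimeIn p M ≤ zeIn p M := by
  rintro _ ⟨x, hx, rfl⟩
  refine ⟨x, ?_, rfl⟩
  rw [SetLike.mem_coe, mem_comap, show qM p M x = 1 from (QuotientGroup.eq_one_iff x).2 hx]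
  exact one_mem _

theorem normalizer_le_normalizer_eIn :
    normalizer (M : Set X) ≤ normalizer (eIn p M : Set X) := by
  haveI : ((layer (↥M ⧸ pPrimeCore p ↥M)).comap (qM p M)).Characteristic :=
    characteristic_comap_mk' _ _
  exact CharP.normalizer_le_normalizer_map_char _

theorem normalizer_le_normalizer_zeIn :
    normalizer (M : Set X) ≤ normalizer (zeIn p M : Set X) := by
  haveI : ((center ↥(layer (↥M ⧸ pPrimeCore p ↥M))).map
      (layer (↥M ⧸ pPrimeCore p ↥M)).subtype).Characteristic := by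
    refine characteristic_iff_map_le.2 fun φ => ?_
    rintro _ ⟨_, ⟨z, hz, rfl⟩, rfl⟩
    have hl : φ.toMonoidHom (z : _) ∈ layer _ :=
      characteristic_iff_map_le.1 inferInstance φ ⟨_, z.2, rfl⟩
    refine ⟨⟨_, hl⟩, mem_center_iff.2 fun g => Subtype.ext ?_, rfl⟩
    have hg : φ.symm (g : _) ∈ layer _ :=
      characteristic_iff_map_le.1 inferInstance φ.symm ⟨_, g.2, rfl⟩
    have h1 := congrArg (fun w : layer _ => φ (w : _)) (mem_center_iff.1 hz ⟨_, hg⟩)
    simpa using h1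
  haveI := characteristic_comap_mk' (pPrimeCore p ↥M)
    ((center ↥(layer (↥M ⧸ pPrimeCore p ↥M))).map (layer (↥M ⧸ pPrimeCore p ↥M)).subtype)
  exact CharP.normalizer_le_normalizer_map_char _

theorem normalizer_le_normalizer_jIn :
    normalizer (M : Set X) ≤ normalizer (jIn p M : Set X) := by
  haveI : (pCore p (↥M ⧸ pPrimeCore p ↥M)).Characteristic :=
    characteristic_iff_map_eq.2 fun φ => Cores.map_pCore_equiv φ
  haveI : ((pCore p (↥M ⧸ pPrimeCore p ↥M)).comap (qM p M)).Characteristic :=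
    characteristic_comap_mk' _ _
  exact CharP.normalizer_le_normalizer_map_char _

theorem jIn_pow {y : X} (hy : y ∈ jIn p M) : ∃ k, y ^ p ^ k ∈ pPrimeIn p M := by
  obtain ⟨y, hy, rfl⟩ := hy
  obtain ⟨k, hk⟩ := Cores.pCore_isPGroup (G := ↥M ⧸ pPrimeCore p ↥M) p ⟨_, hy⟩
  refine ⟨k, ⟨y ^ p ^ k, ?_, map_pow _ _ _⟩⟩
  rw [SetLike.mem_coe, ← QuotientGroup.eq_one_iff, QuotientGroup.mk_pow]
  exact congrArg Subtype.val hk

/-- `zeIn` is central in `eIn` modulo `O_{p'}`. -/
theorem comm_mem_pPrimeIn {x z : X} (hx : x ∈ eIn p M) (hz : z ∈ zeIn p M) :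
    x * z * x⁻¹ * z⁻¹ ∈ pPrimeIn p M := by
  obtain ⟨x, hx, rfl⟩ := hx
  obtain ⟨z, ⟨w, hw, hwz⟩, rfl⟩ := hz
  refine mem_pPrimeIn (x := x * z * x⁻¹ * z⁻¹) |>.2 ?_
  have h := congrArg Subtype.val (mem_center_iff.1 hw ⟨_, hx⟩)
  have hc : qM p M x * qM p M z = qM p M z * qM p M x := by rw [← hwz]; exact h
  rw [map_mul, map_mul, map_mul, map_inv, map_inv, hc, mul_inv_cancel_right, mul_inv_cancel]

/-- `eIn` is perfect modulo `O_{p'}`. -/
theorem eIn_le_commutator : eIn p M ≤ ⁅eIn p M, eIn p M⁆ ⊔ pPrimeIn p M := by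
  rintro _ ⟨x, hx, rfl⟩
  set E := (layer (↥M ⧸ pPrimeCore p ↥M)).comap (qM p M) with hE
  have h1 : qM p M x ∈ (⁅E, E⁆).map (qM p M) := by
    rw [map_commutator, hE, map_comap_eq_self_of_surjective (QuotientGroup.mk'_surjective _),
      Components.Layer.commutator_layer_self]
    exact hx
  obtain ⟨y, hy, hyx⟩ := h1
  rw [show M.subtype x = (y : X) * ((y⁻¹ * x : ↥M) : X) by simp]
  refine mul_mem (mem_sup_left ?_) (mem_sup_right (mem_pPrimeIn.2 ?_))
  · rw [eIn, ← map_commutator]; exact ⟨y, hy, rfl⟩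
  · rw [map_mul, map_inv, hyx, inv_mul_cancel]

/-- The section `eIn / zeIn` has no solvable normal subgroup. -/
theorem le_zeIn_of_solvable {q : ℕ} [Fact q.Prime] {U : Subgroup X} (hU : U ≤ eIn p M)
    (hUq : IsPGroup q U) (hn : eIn p M ≤ normalizer ((U ⊔ zeIn p M : Subgroup X) : Set X)) :
    U ≤ zeIn p M := by
  set L := layer (↥M ⧸ pPrimeCore p ↥M) with hL
  set U' := ((U.subgroupOf M).map (qM p M)).subgroupOf L with hU'
  set N := U' ⊔ center ↥L with hN
  have hNn : N.Normal := by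
    constructor
    intro n hn' g
    obtain ⟨u, hu, z, hz, rfl⟩ := mem_sup_of_normal_right.1 hn'
    obtain ⟨u0, hu0, hu0e⟩ := mem_subgroupOf.1 hu
    obtain ⟨g0, hg0⟩ := QuotientGroup.mk'_surjective (pPrimeCore p ↥M) (g : ↥M ⧸ pPrimeCore p ↥M)
    have hgE : (g0 : X) ∈ eIn p M := ⟨g0, show qM p M g0 ∈ L from hg0 ▸ g.2, rfl⟩
    have h1 := Flavell42.conj_mem (hn hgE) (mem_sup_left (T := zeIn p M) (mem_subgroupOf.1 hu0))
    have h2 : (g * u * g⁻¹ : ↥L) ∈ N := by
      have hle : U ⊔ zeIn p M ≤ (((N.map L.subtype)).comap (qM p M)).map M.subtype := by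
        refine sup_le ?_ (map_mono (comap_mono (map_mono le_sup_right)))
        intro v hv
        obtain ⟨v', hv', rfl⟩ := hU hv
        exact ⟨v', ⟨⟨qM p M v', hv'⟩, mem_sup_left ⟨v', hv, rfl⟩, rfl⟩, rfl⟩
      obtain ⟨w, ⟨n', hn', hn'e⟩, hwe⟩ := hle h1
      have e : n' = g * u * g⁻¹ := Subtype.ext (by
        show (n' : ↥M ⧸ pPrimeCore p ↥M) = g * u * (g : ↥M ⧸ pPrimeCore p ↥M)⁻¹
        rw [← hg0, ← hu0e]
        refine hn'e.trans ?_
        rw [show w = g0 * u0 * g0⁻¹ from Subtype.ext hwe, map_mul, map_mul, map_inv])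
      rwa [e] at hn'
    rw [show g * (u * z) * g⁻¹ = (g * u * g⁻¹) * (g * z * g⁻¹) by group]
    exact mul_mem h2 (mem_sup_right ((inferInstance : (center ↥L).Normal).conj_mem z hz g))
  have hUs : Group.IsSolvable U' := by
    have h1 : IsPGroup q U' := ((hUq.comap_of_injective M.subtype M.subtype_injective).map
      (qM p M)).comap_of_injective L.subtype L.subtype_injective
    exact Coprime.isSolvable_of_isPGroup h1
  have hsol : Group.IsSolvable N := by
    haveI := hUs
    haveI : Group.IsSolvable (center ↥L) := Coprime.isSolvable_of_isMulCommutative _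
    set ψ : ↥N →* ↥L ⧸ center ↥L := (QuotientGroup.mk' (center ↥L)).comp N.subtype
    haveI hker : Group.IsSolvable ψ.ker := Group.isSolvable_of_isSolvable_injective
      (f := (N.subtype.comp ψ.ker.subtype).codRestrict (center ↥L)
        fun x => (QuotientGroup.eq_one_iff _).1 x.2)
      (fun x y hxy => Subtype.ext (Subtype.ext (congrArg (fun w : center ↥L => (w : ↥L)) hxy)))
    haveI hr : Group.IsSolvable ψ.range := by
      have e : ψ.range = U'.map (QuotientGroup.mk' (center ↥L)) := by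
        rw [MonoidHom.range_comp, range_subtype, hN, Subgroup.map_sup,
          (Subgroup.map_eq_bot_iff _).2 (QuotientGroup.ker_mk' _).ge, sup_bot_eq]
      rw [e]; exact Coprime.isSolvable_map _ _
    exact Group.isSolvable_of_ker_le_range ψ.ker.subtype ψ.rangeRestrict
      (by rw [MonoidHom.ker_rangeRestrict, range_subtype])
  have hle := le_center_of_layer (layer_layer _) N hsol
  intro v hv
  obtain ⟨v', hv', rfl⟩ := hU hv
  exact ⟨v', ⟨⟨qM p M v', hv'⟩, hle (mem_sup_left ⟨v', hv, rfl⟩), rfl⟩, rfl⟩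

variable [hp : Fact p.Prime]

/-- A normal `p`-subgroup of `M` centralises `eIn`. -/
theorem eIn_le_centralizer {U : Subgroup X} (hU : U ≤ M) (hn : M ≤ normalizer (U : Set X))
    (hUp : IsPGroup p U) : eIn p M ≤ centralizer (U : Set X) := by
  rintro _ ⟨x, hx, rfl⟩
  refine mem_centralizer_iff.2 fun u hu => ?_
  haveI : (U.subgroupOf M).Normal := normal_subgroupOf_of_le_normalizer hn
  haveI : ((U.subgroupOf M).map (qM p M)).Normal :=
    Normal.map (inferInstance : (U.subgroupOf M).Normal) _ (QuotientGroup.mk'_surjective _)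
  haveI : ((U.comap M.subtype).map (qM p M)).Normal :=
    ‹((U.subgroupOf M).map (qM p M)).Normal›
  have hF : (U.subgroupOf M).map (qM p M) ≤ fittingSubgroup _ :=
    (Cores.le_pCore ((hUp.comap_of_injective M.subtype M.subtype_injective).map _)).trans
      (Cores.pCore_le_fittingSubgroup p)
  have hc := mem_centralizer_iff.1
    (Components.Layer.fitting_le_centralizer_layer (hF ⟨⟨u, hU hu⟩, hu, rfl⟩)) _ hx
  have h1 : u * (x : X) * u⁻¹ * (x : X)⁻¹ ∈ pPrimeIn p M := by
    refine mem_pPrimeIn (x := ⟨u, hU hu⟩ * x * ⟨u, hU hu⟩⁻¹ * x⁻¹) |>.2 ?_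
    rw [map_mul, map_mul, map_mul, map_inv, map_inv, ← hc, mul_inv_cancel_right, mul_inv_cancel]
  have h2 : u * (x : X) * u⁻¹ * (x : X)⁻¹ = 1 := by
    refine HHS57.eq_one_of_isPGroup_of_not_dvd hp.out hUp ?_ fun hd =>
      not_dvd_pPrimeIn (hd.trans (orderOf_dvd_natCard _ h1))
    rw [show u * (x : X) * u⁻¹ * (x : X)⁻¹ = u * ((x : X) * u⁻¹ * (x : X)⁻¹) by group]
    exact mul_mem hu (Flavell42.conj_mem (hn x.2) (inv_mem hu))
  exact mul_inv_eq_iff_eq_mul.1 (mul_inv_eq_one.1 h2)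

/-- An element of order prime to `p` centralising `eIn` and `jIn` modulo `O_{p'}` lies in it. -/
theorem mem_pPrimeIn_of_centralizes {x : X} (hx : x ∈ M) (hxp : ¬ p ∣ orderOf x)
    (hE : ∀ y ∈ eIn p M, x * y * x⁻¹ * y⁻¹ ∈ pPrimeIn p M)
    (hJ : ∀ y ∈ jIn p M, x * y * x⁻¹ * y⁻¹ ∈ pPrimeIn p M) : x ∈ pPrimeIn p M := by
  set Q := ↥M ⧸ pPrimeCore p ↥M
  set x' : ↥M := ⟨x, hx⟩
  have hcomm : ∀ y : ↥M, x * y * x⁻¹ * (y : X)⁻¹ ∈ pPrimeIn p M →
      qM p M y * qM p M x' = qM p M x' * qM p M y := fun y hy => by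
    have h1 := (mem_pPrimeIn (x := x' * y * x'⁻¹ * y⁻¹)).1 hy
    rw [map_mul, map_mul, map_mul, map_inv, map_inv, mul_inv_eq_one] at h1
    exact (mul_inv_eq_iff_eq_mul.1 h1).symm
  have hcen : qM p M x' ∈ centralizer (generalizedFittingSubgroup Q : Set Q) := by
    have hle : generalizedFittingSubgroup Q ≤ centralizer {qM p M x'} := by
      refine sup_le ?_ ?_
      · intro w hw
        obtain ⟨y, rfl⟩ := QuotientGroup.mk'_surjective _ w
        exact mem_centralizer_singleton_iff.2 (hcomm y (hE _ ⟨y, hw, rfl⟩))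
      · rw [FStarTools.fitting_eq_pCore (Cores.pPrimeCore_quotient_pPrimeCore p)]
        intro w hw
        obtain ⟨y, rfl⟩ := QuotientGroup.mk'_surjective _ w
        exact mem_centralizer_singleton_iff.2 (hcomm y (hJ _ ⟨y, hw, rfl⟩))
    exact mem_centralizer_iff.2 fun w hw => mem_centralizer_singleton_iff.1 (hle hw)
  have hF := FStarTools.center_genFitting_le hcen
  rw [FStarTools.fitting_eq_pCore (Cores.pPrimeCore_quotient_pPrimeCore p)] at hF
  refine (mem_pPrimeIn (x := x')).2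
    (HHS57.eq_one_of_isPGroup_of_not_dvd hp.out (Cores.pCore_isPGroup p) hF fun hd => hxp ?_)
  rw [show orderOf x = orderOf x' from Subgroup.orderOf_coe x']
  exact hd.trans (orderOf_map_dvd _ _)

/-- An operator trivial on `eIn` modulo `zeIn` is trivial modulo `O_{p'}`. -/
theorem comm_eIn_of_zeIn {b : X} (hb : b ∈ normalizer (pPrimeIn p M : Set X))
    (h : ∀ y ∈ eIn p M, y⁻¹ * (b * y * b⁻¹) ∈ zeIn p M) :
    ∀ y ∈ eIn p M, y⁻¹ * (b * y * b⁻¹) ∈ pPrimeIn p M := by
  set O := pPrimeIn p M with hO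
  set N := normalizer (O : Set X) with hN
  haveI : (O.subgroupOf N).Normal := Subgroup.normal_in_normalizer
  set π := QuotientGroup.mk' (O.subgroupOf N)
  have hπ : ∀ {x : ↥N}, π x = 1 ↔ (x : X) ∈ O := fun {x} =>
    (QuotientGroup.eq_one_iff x).trans mem_subgroupOf
  have hEN : eIn p M ≤ N := eIn_le.trans (le_normalizer.trans normalizer_le_normalizer_pPrimeIn)
  set b' : ↥N := ⟨b, hb⟩
  have hdiff : ∀ y : ↥N, (y : X) ∈ eIn p M → ∃ z : ↥N, (z : X) ∈ zeIn p M ∧
      b' * y * b'⁻¹ = y * z := fun y hy =>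
    ⟨y⁻¹ * (b' * y * b'⁻¹), h y hy, by group⟩
  have hc : ∀ {y z : ↥N}, (y : X) ∈ eIn p M → (z : X) ∈ zeIn p M → Commute (π y) (π z) := by
    intro y z hy hz
    have h1 := (hπ (x := y * z * y⁻¹ * z⁻¹)).2 (comm_mem_pPrimeIn hy hz)
    rw [map_mul, map_mul, map_mul, map_inv, map_inv, mul_inv_eq_one] at h1
    exact mul_inv_eq_iff_eq_mul.1 h1
  set S : Subgroup X := (((centralizer ({π b'} : Set (↥N ⧸ O.subgroupOf N))).comap π).map N.subtype)
  have hOS : O ≤ S := fun o ho => ⟨⟨o, le_normalizer ho⟩, mem_centralizer_singleton_iff.2 (by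
    rw [hπ.2 ho, one_mul, mul_one]), rfl⟩
  have hcS : ⁅eIn p M, eIn p M⁆ ≤ S := by
    refine commutator_le.2 fun y hy z hz => ?_
    refine ⟨⁅(⟨y, hEN hy⟩ : ↥N), ⟨z, hEN hz⟩⁆, mem_centralizer_singleton_iff.2 ?_, rfl⟩
    obtain ⟨u, hu, hyu⟩ := hdiff ⟨y, hEN hy⟩ hy
    obtain ⟨v, hv, hzv⟩ := hdiff ⟨z, hEN hz⟩ hz
    set Y := π ⟨y, hEN hy⟩
    set Z := π ⟨z, hEN hz⟩
    have c1 : Commute Z (π u) := hc hz hu
    have c2 : Commute Y (π v) := hc hy hv
    have c3 : Commute (π u) (π v) := hc (zeIn_le_eIn hu) hv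
    have c4 : Commute ⁅Y, Z⁆ (π u * π v) := by
      have cY : Commute Y (π u * π v) := (hc hy hu).mul_right c2
      have cZ : Commute Z (π u * π v) := c1.mul_right (hc hz hv)
      rw [commutatorElement_def]
      exact ((cY.mul_left cZ).mul_left cY.inv_left).mul_left cZ.inv_left
    have e : π b' * ⁅Y, Z⁆ * (π b')⁻¹ = ⁅Y, Z⁆ := by
      rw [show π b' * ⁅Y, Z⁆ * (π b')⁻¹ = ⁅π b' * Y * (π b')⁻¹, π b' * Z * (π b')⁻¹⁆ by
        rw [commutatorElement_def, commutatorElement_def]; group,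
        show π b' * Y * (π b')⁻¹ = Y * π u by rw [← map_inv, ← map_mul, ← map_mul, hyu, map_mul],
        show π b' * Z * (π b')⁻¹ = Z * π v by rw [← map_inv, ← map_mul, ← map_mul, hzv, map_mul],
        commutatorElement_def, commutatorElement_def]
      calc Y * π u * (Z * π v) * (Y * π u)⁻¹ * (Z * π v)⁻¹ =
          Y * (π u * Z) * (π v * (π u)⁻¹) * Y⁻¹ * (π v)⁻¹ * Z⁻¹ := by group
        _ = Y * Z * (π u * (π u)⁻¹) * π v * Y⁻¹ * (π v)⁻¹ * Z⁻¹ := by
          rw [← c1.eq, ← (c3.inv_left).eq]; group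
        _ = Y * Z * (π v * Y⁻¹) * (π v)⁻¹ * Z⁻¹ := by group
        _ = Y * Z * Y⁻¹ * Z⁻¹ := by rw [← (c2.inv_left).eq]; group
    rw [map_commutatorElement]
    exact (mul_inv_eq_iff_eq_mul.1 e).symm
  intro y hy
  obtain ⟨y', hy', rfl⟩ := (eIn_le_commutator.trans (sup_le hcS hOS)) hy
  have h1 : π (y'⁻¹ * (b' * y' * b'⁻¹)) = 1 := by
    rw [map_mul, map_mul, map_mul, map_inv, map_inv, ← mem_centralizer_singleton_iff.1 hy',
      mul_inv_cancel_right, inv_mul_cancel]
  exact hπ.1 h1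

end Cfsg.Agent.Lib.Flavell57
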