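import Cfsg.Agent.Lib.Flavell57.Defs
import Cfsg.Agent.Lib.Coprime.Generation

/-!
# A section without solvable normal subgroups (helper57)

`pInv p A E` is trivial when `C_E(a) = C_E(A)` and `E` has no normal `p`-subgroup; `A` centralises
`E` when the commutators of `A` with the `C_E(c)` lie in invariant `2`-groups.  `central_mod` combines
the two modulo a normal subgroup `Z`.
-/

set_option autoImplicit false
set_option linter.style.haveILetI false
set_option linter.unusedSectionVars false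

namespace Cfsg.Agent.Lib.Flavell57

open Cfsg Cfsg.Agent.Lib
open Cfsg.Agent.Lib.Flavell42 (pInv Act)
open Subgroup
open scoped Pointwise

universe u

variable {X : Type u} [Group X] [Finite X] {p r : ℕ} [Fact p.Prime] [Fact r.Prime]

/-- Two commuting elements of exponent `r`. -/
structure Two (r : ℕ) (e f : X) (A : Subgroup X) : Prop where
  he : e ^ r = 1
  hf : f ^ r = 1
  hef : Commute e f
  hA : A = closure {e, f}

namespace Two

variable {e f : X} {A : Subgroup X}

theorem mem_e (h : Two r e f A) : e ∈ A := h.hA ▸ subset_closure (Set.mem_insert _ _)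

theorem mem_f (h : Two r e f A) : f ∈ A :=
  h.hA ▸ subset_closure (Set.mem_insert_of_mem _ rfl)

theorem comm (h : Two r e f A) {x y : X} (hx : x ∈ A) (hy : y ∈ A) : x * y = y * x := by
  have h1 : A ≤ centralizer (A : Set X) := by
    rw [h.hA, closure_le, centralizer_closure]
    intro x hx
    refine mem_centralizer_iff.2 fun y hy => ?_
    rcases hx with rfl | rfl <;> rcases hy with rfl | rfl
    · rfl
    · exact h.hef.eq.symm
    · exact h.hef.eq
    · rfl
  exact (mem_centralizer_iff.1 (h1 hx) y hy).symm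

theorem le_centralizer_singleton (h : Two r e f A) {x : X} (hx : x ∈ A) : A ≤ centralizer {x} :=
  fun _ hy => mem_centralizer_singleton_iff.2 (h.comm hy hx)

theorem pow_eq_one (h : Two r e f A) {x : X} (hx : x ∈ A) : x ^ r = 1 := by
  rw [h.hA] at hx
  induction hx using closure_induction with
  | mem y hy =>
    rcases hy with rfl | rfl
    · exact h.he
    · exact h.hf
  | one => exact one_pow r
  | mul a b ha hb iha ihb =>
    rw [(show Commute a b from h.comm (h.hA ▸ ha) (h.hA ▸ hb)).mul_pow, iha, ihb, one_mul]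
  | inv a _ iha => rw [inv_pow, iha, inv_one]

theorem isPGroup (h : Two r e f A) : IsPGroup r A :=
  fun x => ⟨1, Subtype.ext (by simpa using h.pow_eq_one x.2)⟩

theorem solvable (h : Two r e f A) : Group.IsSolvable A :=
  Coprime.isSolvable_of_isPGroup h.isPGroup

theorem act (h : Two r e f A) {K : Subgroup X} (hK : A ≤ normalizer (K : Set X))
    (hr : ¬ r ∣ Nat.card K) : Act A K := by
  obtain ⟨n, hn⟩ := IsPGroup.iff_card.1 h.isPGroup
  exact ⟨hK, hn ▸ (((Fact.out : r.Prime).coprime_iff_not_dvd).2 hr).pow_left n, h.solvable⟩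

/-- Generation by the centralisers of `f` and the `e f ^ t`. -/
theorem gen (h : Two r e f A) {K T : Subgroup X} (hK : A ≤ normalizer (K : Set X))
    (hr : ¬ r ∣ Nat.card K) (h1 : K ⊓ centralizer {f} ≤ T)
    (h2 : ∀ t : ℕ, K ⊓ centralizer {e * f ^ t} ≤ T) : K ≤ T :=
  (Coprime.le_lineCentralizers h.hef (hK h.mem_e) (hK h.mem_f) (by rw [h.he]; exact one_mem _)
      (by rw [h.hf]; exact one_mem _) (h.hA ▸ (h.act hK hr).cop)
      (((Fact.out : r.Prime).coprime_iff_not_dvd).2 hr)).trans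
    (sup_le h1 (iSup_le fun t => h2 _))

theorem map (h : Two r e f A) {Y : Type u} [Group Y] (g : X →* Y) :
    A.map g = closure {g e, g f} := by
  rw [h.hA, MonoidHom.map_closure, Set.image_pair]

end Two

variable {A M E : Subgroup X} {a e f : X}

/-- `pInv p A E = ⊥`. -/
theorem pInv_eq_bot (hA : Two r e f A) (hact : Act A M) (hEM : E ≤ M)
    (hME : M ≤ normalizer (E : Set X)) (hAE : A ≤ normalizer (E : Set X)) (ha : a ∈ A)
    (hcent : E ⊓ centralizer {a} ≤ centralizer (A : Set X))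
    (hM : M ≤ (M ⊓ centralizer {a}) ⊔ pInv p A M)
    (hns : ∀ U ≤ E, IsPGroup p U → E ≤ normalizer (U : Set X) → U = ⊥) : pInv p A E = ⊥ := by
  set A₀ := zpowers a
  have hA₀ : A₀ ≤ A := zpowers_le.2 ha
  have hactE : Act A E := hact.sub hEM hAE
  have hact₀ : Act A₀ E := hactE.mono hA₀
  have hc0 : ∀ {x : X}, x ∈ centralizer {a} → x ∈ centralizer (A₀ : Set X) := fun {x} hx => by
    rw [mem_centralizer_iff]
    rintro _ ⟨i, rfl⟩
    exact ((show Commute x a from mem_centralizer_singleton_iff.1 hx).zpow_right i).eq.symm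
  have heq : pInv p A E = pInv p A₀ E := by
    refine le_antisymm ?_ ?_
    · refine Flavell42.le_pInv hact₀ Flavell42.pInv_le (Flavell42.isPGroup_pInv hactE)
        (hA₀.trans (Flavell42.act_le_normalizer_pInv hactE)) ?_
      intro x hx
      refine Flavell42.centralizer_le_normalizer_pInv (le_normalizer hx.1) (hcent ⟨hx.1, ?_⟩)
      exact mem_centralizer_singleton_iff.2 (mem_centralizer_iff.1 hx.2 a (mem_zpowers a)).symm
    · refine Flavell42.le_pInv hactE Flavell42.pInv_le (Flavell42.isPGroup_pInv hact₀) ?_ ?_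
      · exact fun b hb => Flavell42.centralizer_le_normalizer_pInv (hAE hb)
          (hc0 (hA.le_centralizer_singleton ha hb))
      · exact fun x hx => Flavell42.centralizer_le_normalizer_pInv (le_normalizer hx.1)
          (hc0 (mem_centralizer_singleton_iff.2 (mem_centralizer_iff.1 hx.2 a ha).symm))
  refine hns _ Flavell42.pInv_le (Flavell42.isPGroup_pInv hactE) ?_
  refine hEM.trans (hM.trans (sup_le ?_ ?_))
  · intro x hx
    rw [heq]
    exact Flavell42.centralizer_le_normalizer_pInv (hME hx.1) (hc0 hx.2)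
  · rw [Flavell42.pInv_eq_inf hact hEM hAE hME]
    exact Coprime.le_normalizer_inf le_normalizer (Flavell42.pInv_le.trans hME)

/-- `A` centralises `E`. -/
theorem centralizes_of_two (hA : Two r e f A) (hAE : A ≤ normalizer (E : Set X))
    (hrE : ¬ r ∣ Nat.card E) (hns : ∀ U ≤ E, IsPGroup 2 U → E ≤ normalizer (U : Set X) → U = ⊥)
    (hD : ∀ c, (c = f ∨ ∃ t : ℕ, c = e * f ^ t) → ∃ D ≤ E, A ≤ normalizer (D : Set X) ∧
      E ⊓ centralizer (A : Set X) ≤ normalizer (D : Set X) ∧ IsPGroup 2 D ∧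
      ∀ x ∈ E ⊓ centralizer {c}, ∀ b ∈ A, x⁻¹ * (b * x * b⁻¹) ∈ D) :
    E ≤ centralizer (A : Set X) := by
  haveI : Fact (Nat.Prime 2) := ⟨Nat.prime_two⟩
  have hact : Act A E := hA.act hAE hrE
  set T := pInv 2 A E with hT
  have hDT : ∀ D ≤ E, A ≤ normalizer (D : Set X) →
      E ⊓ centralizer (A : Set X) ≤ normalizer (D : Set X) → IsPGroup 2 D → D ≤ T :=
    fun D h1 h2 h3 h4 => Flavell42.le_pInv hact h1 h4 h2 h3
  -- each fixed subgroup is the fixed points of `A` times a part in `T`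
  have hsplit : ∀ c, (c = f ∨ ∃ t : ℕ, c = e * f ^ t) → ∀ x ∈ E ⊓ centralizer {c},
      ∃ y ∈ E ⊓ centralizer (A : Set X), ∃ d ∈ T, x = y * d := by
    intro c hc x hx
    obtain ⟨D, hDE, hAD, hCD, hD2, hdiff⟩ := hD c hc
    obtain ⟨d, hd, hxd⟩ := Coprime.exists_mul_fixed hAD
      (hact.cop.coprime_dvd_right (card_dvd_of_le hDE)) (.inl hA.solvable) (hdiff x hx)
    exact ⟨x * d, ⟨mul_mem hx.1 (hDE hd), hxd⟩, d⁻¹, hDT D hDE hAD hCD hD2 (inv_mem hd), by simp⟩
  have hnorm : ∀ c, (c = f ∨ ∃ t : ℕ, c = e * f ^ t) →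
      E ⊓ centralizer {c} ≤ normalizer (T : Set X) := fun c hc x hx => by
    obtain ⟨y, hy, d, hd, rfl⟩ := hsplit c hc x hx
    exact mul_mem (Flavell42.centralizer_le_normalizer_pInv (le_normalizer hy.1) hy.2)
      (le_normalizer hd)
  have hTbot : T = ⊥ := hns T Flavell42.pInv_le (Flavell42.isPGroup_pInv hact)
    (hA.gen hAE hrE (hnorm f (.inl rfl)) fun t => hnorm _ (.inr ⟨t, rfl⟩))
  have hcen : ∀ c, (c = f ∨ ∃ t : ℕ, c = e * f ^ t) →
      E ⊓ centralizer {c} ≤ centralizer (A : Set X) := fun c hc x hx => by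
    obtain ⟨y, hy, d, hd, rfl⟩ := hsplit c hc x hx
    rw [hTbot, mem_bot] at hd
    rw [hd, mul_one]; exact hy.2
  exact hA.gen hAE hrE (hcen f (.inl rfl)) fun t => hcen _ (.inr ⟨t, rfl⟩)

/-- Both steps modulo a normal subgroup `Z`. -/
theorem central_mod {Z : Subgroup X} [Z.Normal] (hA : Two r e f A) (hact : Act A M)
    (hrM : ¬ r ∣ Nat.card M) (hZE : Z ≤ E) (hEM : E ≤ M) (hME : M ≤ normalizer (E : Set X))
    (hAE : A ≤ normalizer (E : Set X)) (ha : a ∈ A)
    (hca : ∀ y ∈ E ⊓ centralizer {a}, ∀ b ∈ A, y⁻¹ * (b * y * b⁻¹) ∈ Z)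
    (hM : M ≤ (M ⊓ centralizer {a}) ⊔ pInv p A M)
    (hsol : ∀ (q : ℕ) [Fact q.Prime], ∀ U ≤ E, IsPGroup q U →
      E ≤ normalizer ((U ⊔ Z : Subgroup X) : Set X) → U ≤ Z)
    (hD : (∀ U ≤ E, IsPGroup p U → A ≤ normalizer (U : Set X) →
        E ⊓ centralizer (A : Set X) ≤ normalizer (U : Set X) → U ≤ Z) →
      ∀ c, (c = f ∨ ∃ t : ℕ, c = e * f ^ t) → ∃ D ≤ E, A ≤ normalizer (D : Set X) ∧
        E ⊓ centralizer (A : Set X) ≤ normalizer (D : Set X) ∧ (∀ d ∈ D, ∃ k, d ^ 2 ^ k ∈ Z) ∧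
        ∀ x ∈ E ⊓ centralizer {c}, ∀ b ∈ A, x⁻¹ * (b * x * b⁻¹) ∈ D) :
    ∀ x ∈ E, ∀ b ∈ A, x⁻¹ * (b * x * b⁻¹) ∈ Z := by
  set π := QuotientGroup.mk' Z
  have hπ : ∀ {x : X}, π x = 1 ↔ x ∈ Z := fun {x} => QuotientGroup.eq_one_iff x
  have hA' : Two r (π e) (π f) (A.map π) :=
    ⟨by rw [← map_pow, hA.he, map_one], by rw [← map_pow, hA.hf, map_one], hA.hef.map π,
      hA.map π⟩
  have hactE : Act A E := hact.sub hEM hAE
  have hAZ : A ≤ normalizer (Z : Set X) := by rw [normalizer_eq_top]; exact le_top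
  have hcopZ : (Nat.card A).Coprime (Nat.card Z) :=
    hactE.cop.coprime_dvd_right (card_dvd_of_le hZE)
  have hrE : ¬ r ∣ Nat.card (E.map π) := fun h =>
    hrM ((h.trans (card_map_dvd E π)).trans (card_dvd_of_le hEM))
  have hns : ∀ (q : ℕ) [Fact q.Prime], ∀ U ≤ E.map π, IsPGroup q U →
      E.map π ≤ normalizer (U : Set (X ⧸ Z)) → U = ⊥ := by
    intro q _ U hU hUq hUn
    set K := E ⊓ U.comap π with hK
    obtain ⟨S, hS⟩ := CosetGraph.SylowIn.exists_isSylowIn (p := q) K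
    have hSU : S.map π = U := by
      refine eq_of_le_of_card_ge (map_le_iff_le_comap.2 (hS.1.trans inf_le_right)) ?_
      obtain ⟨i, hi⟩ := IsPGroup.iff_card.1 hUq
      have hKU : K.map π = U := le_antisymm (map_le_iff_le_comap.2 inf_le_right) fun y hy => by
        obtain ⟨x, hx, rfl⟩ := hU hy
        exact ⟨x, ⟨hx, hy⟩, rfl⟩
      have hZK : Z ≤ K := le_inf hZE fun z hz => by
        show π z ∈ U
        rw [hπ.2 hz]; exact one_mem _
      have h1 := Subgroup.card_eq_card_quotient_mul_card_subgroup (Z.subgroupOf K)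
      have h2 : Nat.card (K.map π) * Nat.card Z = Nat.card K := by
        rw [h1, Nat.card_congr (subgroupOfEquivOfLe hZK).toEquiv]
        congr 1
        have e : Z.subgroupOf K = (π.comp K.subtype).ker := by
          rw [← MonoidHom.comap_ker, QuotientGroup.ker_mk']; rfl
        rw [e, Nat.card_congr (QuotientGroup.quotientKerEquivRange _).toEquiv,
          MonoidHom.range_comp, range_subtype]
      have h3 : Nat.card (S.map π) * Nat.card (S ⊓ Z : Subgroup X) = Nat.card S := by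
        rw [Subgroup.card_eq_card_quotient_mul_card_subgroup ((S ⊓ Z).subgroupOf S),
          Nat.card_congr (subgroupOfEquivOfLe inf_le_left).toEquiv]
        congr 1
        have e : (S ⊓ Z).subgroupOf S = (π.comp S.subtype).ker := by
          rw [← MonoidHom.comap_ker, QuotientGroup.ker_mk', inf_subgroupOf_left]; rfl
        rw [e, Nat.card_congr (QuotientGroup.quotientKerEquivRange _).toEquiv,
          MonoidHom.range_comp, range_subtype]
      obtain ⟨j, hj⟩ := IsPGroup.iff_card.1 (hS.isPGroup.map π)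
      obtain ⟨k, hk⟩ := IsPGroup.iff_card.1 (hS.isPGroup.to_le (inf_le_left : S ⊓ Z ≤ S))
      have hq : q.Prime := Fact.out
      rw [hKU, hi] at h2
      rw [hj, hk, ← pow_add, hS.2] at h3
      have h4 : k ≤ (Nat.card Z).factorization q := by
        rw [← hq.pow_dvd_iff_le_factorization Nat.card_pos.ne', ← hk]
        exact card_dvd_of_le inf_le_right
      have h5 : (Nat.card K).factorization q = i + (Nat.card Z).factorization q := by
        rw [← h2, Nat.factorization_mul (pow_ne_zero _ hq.ne_zero) Nat.card_pos.ne',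
          Finsupp.add_apply, hq.factorization_pow, Finsupp.single_eq_same]
      have h6 := Nat.pow_right_injective hq.two_le h3
      rw [hi, hj]
      exact Nat.pow_le_pow_right hq.pos (by omega)
    have hS' : S ≤ Z := by
      refine hsol q S (hS.1.trans inf_le_left) hS.isPGroup ?_
      rw [show S ⊔ Z = U.comap π by
        rw [← hSU, comap_map_eq, QuotientGroup.ker_mk']]
      exact fun g hg => le_normalizer_comap π (hUn ⟨g, hg, rfl⟩)
    rw [← hSU, Subgroup.map_eq_bot_iff, QuotientGroup.ker_mk']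
    exact hS'
  have hfix : ∀ {x : X}, x ∈ E → (∀ b ∈ A, x⁻¹ * (b * x * b⁻¹) ∈ Z) →
      ∃ z ∈ Z, x * z ∈ E ⊓ centralizer (A : Set X) := fun {x} hx h => by
    obtain ⟨z, hz, hxz⟩ := Coprime.exists_mul_fixed hAZ hcopZ (.inl hA.solvable) h
    exact ⟨z, hz, mul_mem hx (hZE hz), hxz⟩
  have hdiffπ : ∀ {x : X} {b : X}, Commute (π b) (π x) → x⁻¹ * (b * x * b⁻¹) ∈ Z := by
    intro x b h
    rw [← hπ, map_mul, map_mul, map_mul, map_inv, map_inv, h.eq, mul_inv_cancel_right,
      inv_mul_cancel]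
  -- fixed points modulo `Z` under one element
  have hlift : ∀ {c : X}, c ∈ A → ∀ y ∈ E.map π ⊓ centralizer {π c},
      ∃ x ∈ E ⊓ centralizer {c}, π x = y := by
    rintro c hc _ ⟨⟨x, hx, rfl⟩, hy⟩
    have hc' : Commute (π c) (π x) := (mem_centralizer_singleton_iff.1 hy).symm
    have hcA : zpowers c ≤ A := zpowers_le.2 hc
    obtain ⟨z, hz, hxz⟩ := Coprime.exists_mul_fixed (A := zpowers c) (hcA.trans hAZ)
      (hcopZ.coprime_dvd_left (card_dvd_of_le hcA)) (.inl (Coprime.isSolvable_zpowers c))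
      (k := x) (by
        rintro _ ⟨i, rfl⟩
        refine hdiffπ ?_
        rw [map_zpow]
        exact hc'.zpow_left i)
    exact ⟨x * z, ⟨mul_mem hx (hZE hz), centralizer_le
      (Set.singleton_subset_iff.2 (mem_zpowers c)) hxz⟩, by rw [map_mul, hπ.2 hz, mul_one]⟩
  have hdiff : ∀ {x : X}, π x ∈ centralizer (A.map π : Set (X ⧸ Z)) →
      ∀ b ∈ A, x⁻¹ * (b * x * b⁻¹) ∈ Z := fun {x} h b hb =>
    hdiffπ (mem_centralizer_iff.1 h _ ⟨b, hb, rfl⟩)
  have hnormπ : ∀ {U : Subgroup X}, E ⊓ centralizer (A : Set X) ≤ normalizer (U : Set X) →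
      E.map π ⊓ centralizer (A.map π : Set (X ⧸ Z)) ≤ normalizer (U.map π : Set (X ⧸ Z)) := by
    rintro U hU _ ⟨⟨x, hx, rfl⟩, hy⟩
    obtain ⟨z, hz, hxz⟩ := hfix hx (hdiff hy)
    exact le_normalizer_map π ⟨x * z, hU hxz, by rw [map_mul, hπ.2 hz, mul_one]⟩
  have hME' : M.map π ≤ normalizer (E.map π : Set (X ⧸ Z)) :=
    (map_mono hME).trans (le_normalizer_map π)
  have hAE' : A.map π ≤ normalizer (E.map π : Set (X ⧸ Z)) :=
    (map_mono hAE).trans (le_normalizer_map π)
  have h2 : pInv p (A.map π) (E.map π) = ⊥ := by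
    refine pInv_eq_bot (a := π a) hA' (hact.map π) (map_mono hEM) hME' hAE' ⟨a, ha, rfl⟩ ?_ ?_
      (hns p)
    · intro y hy
      obtain ⟨x, hx, rfl⟩ := hlift ha y hy
      rw [mem_centralizer_iff]
      rintro _ ⟨b, hb, rfl⟩
      have h1 := hπ.2 (hca x hx b hb)
      rw [map_mul, map_mul, map_mul, map_inv, map_inv, inv_mul_eq_one] at h1
      exact mul_inv_eq_iff_eq_mul.1 h1.symm
    · refine (map_mono hM).trans ?_
      rw [Subgroup.map_sup]
      refine sup_le_sup ?_ (Flavell42.map_pInv_le hact π)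
      rintro _ ⟨x, ⟨hx, hxa⟩, rfl⟩
      exact ⟨⟨x, hx, rfl⟩, mem_centralizer_singleton_iff.2 (by
        rw [← map_mul, ← map_mul, mem_centralizer_singleton_iff.1 hxa])⟩
  have hU : ∀ U ≤ E, IsPGroup p U → A ≤ normalizer (U : Set X) →
      E ⊓ centralizer (A : Set X) ≤ normalizer (U : Set X) → U ≤ Z := by
    intro U hUE hUp hUA hUC
    have h1 : U.map π ≤ ⊥ := h2 ▸ Flavell42.le_pInv (hactE.map π) (map_mono hUE) (hUp.map π)
      ((map_mono hUA).trans (le_normalizer_map π)) (hnormπ hUC)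
    rw [le_bot_iff, Subgroup.map_eq_bot_iff, QuotientGroup.ker_mk'] at h1
    exact h1
  have h4 : E.map π ≤ centralizer (A.map π : Set (X ⧸ Z)) := by
    haveI : Fact (Nat.Prime 2) := ⟨Nat.prime_two⟩
    refine centralizes_of_two hA' hAE' hrE (hns 2) ?_
    intro c hc
    obtain ⟨c₀, hc₀, hc₀A, hc₀e⟩ : ∃ c₀, π c₀ = c ∧ c₀ ∈ A ∧ (c₀ = f ∨ ∃ t : ℕ, c₀ = e * f ^ t) := by
      rcases hc with rfl | ⟨t, rfl⟩
      · exact ⟨f, rfl, hA.mem_f, .inl rfl⟩
      · exact ⟨e * f ^ t, by rw [map_mul, map_pow], mul_mem hA.mem_e (pow_mem hA.mem_f t),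
          .inr ⟨t, rfl⟩⟩
    subst hc₀
    obtain ⟨D, hDE, hAD, hCD, hD2, hd⟩ := hD hU c₀ hc₀e
    refine ⟨D.map π, map_mono hDE, (map_mono hAD).trans (le_normalizer_map π), hnormπ hCD, ?_, ?_⟩
    · rintro ⟨_, d, hdD, rfl⟩
      obtain ⟨k, hk⟩ := hD2 d hdD
      refine ⟨k, Subtype.ext ?_⟩
      show π d ^ 2 ^ k = 1
      rw [← map_pow, hπ]; exact hk
    · rintro y hy _ ⟨b, hb, rfl⟩
      obtain ⟨x, hx, rfl⟩ := hlift hc₀A y hy
      exact ⟨_, hd x hx b hb, by simp only [map_mul, map_inv]⟩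
  exact fun x hx b hb => hdiff (h4 ⟨x, hx, rfl⟩) b hb

end Cfsg.Agent.Lib.Flavell57
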