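import Cfsg.Agent.Lib.Flavell57.NormK
import Cfsg.Agent.Lib.Flavell57.Quot
import Cfsg.Agent.Lib.Cores.Basic

/-!
# The local hypothesis and the first step (helper57)

`Setup`: `A` is elementary abelian of order `r ^ 2`, acts coprimely on `G`, and centralises
`zIn p (C_G(c))` for its nontrivial elements `c`.  `Setup.initial`: `C_G(a)` normalises the image
under the functor of its `pInv`.
-/

set_option autoImplicit false
set_option linter.style.haveILetI false
set_option linter.unusedSectionVars false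

namespace Cfsg.Agent.Lib.Flavell57

open Cfsg Cfsg.Agent.Lib
open Cfsg.Agent.Lib.Flavell42 (pInv Act)
open Subgroup
open scoped commutatorElement

universe u

variable {X : Type u} [Group X] [Finite X] {p r : ℕ} [Fact p.Prime] [Fact r.Prime]

instance pPrimeCore_characteristic {H : Type u} [Group H] : (pPrimeCore p H).Characteristic :=
  characteristic_iff_map_eq.2 fun φ => Cores.map_pPrimeCore_equiv φ

/-- `O_{p'}` of a subgroup. -/
def pPrimeIn (p : ℕ) (H : Subgroup X) : Subgroup X := (pPrimeCore p ↥H).map H.subtype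

variable {H H' N U : Subgroup X}

theorem pPrimeIn_le : pPrimeIn p H ≤ H := map_subtype_le _

theorem normalizer_le_normalizer_pPrimeIn :
    normalizer (H : Set X) ≤ normalizer (pPrimeIn p H : Set X) :=
  CharP.normalizer_le_normalizer_map_char _

theorem not_dvd_pPrimeIn : ¬ p ∣ Nat.card (pPrimeIn p H) := by
  rw [pPrimeIn, card_map_of_injective H.subtype_injective]
  exact Cores.not_dvd_card_pPrimeCore p

theorem le_pPrimeIn (hN : N ≤ H) (hn : H ≤ normalizer (N : Set X)) (hp : ¬ p ∣ Nat.card N) :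
    N ≤ pPrimeIn p H := by
  haveI : (N.subgroupOf H).Normal := normal_subgroupOf_of_le_normalizer hn
  have h1 : N.subgroupOf H ≤ pPrimeCore p ↥H := Cores.le_pPrimeCore_of_not_dvd (by
    rwa [Nat.card_congr (subgroupOfEquivOfLe hN).toEquiv])
  intro x hx
  exact ⟨⟨x, hN hx⟩, h1 hx, rfl⟩

/-- Normal subgroups of coprime orders commute. -/
theorem commute_of_normal_coprime (hU : IsPGroup p U) (hN : ¬ p ∣ Nat.card N)
    (h1 : U ≤ normalizer (N : Set X)) (h2 : N ≤ normalizer (U : Set X)) {x y : X} (hx : x ∈ U)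
    (hy : y ∈ N) : x * y = y * x := by
  refine commutatorElement_eq_one_iff_mul_comm.1 ?_
  refine HHS57.eq_one_of_isPGroup_of_not_dvd Fact.out hU ?_ fun hd =>
    hN (hd.trans (orderOf_dvd_natCard N ?_))
  · rw [commutatorElement_def, show x * y * x⁻¹ * y⁻¹ = x * (y * x⁻¹ * y⁻¹) by group]
    exact mul_mem hx (Flavell42.conj_mem (h2 hy) (inv_mem hx))
  · rw [commutatorElement_def]
    exact mul_mem (Flavell42.conj_mem (h1 hx) hy) (inv_mem hy)

/-- The elements of order prime to `p` of `F(H)` lie in `O_{p'}(H)`. -/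
theorem fitting_mem_pPrimeCore {H : Type u} [Group H] [Finite H] {x : H}
    (hx : x ∈ fittingSubgroup H) (hp : (orderOf x).Coprime p) : x ∈ pPrimeCore p H := by
  set π := QuotientGroup.mk' (pPrimeCore p H) with hπ
  have hF := Cores.fittingSubgroup_isNilpotent (G := H)
  haveI : ((fittingSubgroup H).map π).Normal :=
    Subgroup.Normal.map inferInstance π (QuotientGroup.mk'_surjective _)
  have h1 : (fittingSubgroup H).map π ≤ pCore p (H ⧸ pPrimeCore p H) := by
    rw [← FStarTools.fitting_eq_pCore (Cores.pPrimeCore_quotient_pPrimeCore p)]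
    exact Cores.le_fittingSubgroup (Cores.isNilpotent_map _ hF)
  have h2 : π x = 1 := HHS57.eq_one_of_isPGroup_of_not_dvd Fact.out (Cores.pCore_isPGroup p)
    (h1 ⟨x, hx, rfl⟩) fun hd => (Fact.out : p.Prime).not_dvd_one
      (hp ▸ Nat.dvd_gcd (hd.trans (orderOf_map_dvd π x)) dvd_rfl)
  exact (QuotientGroup.eq_one_iff x).1 h2

theorem layIn_le_zIn : layIn H ≤ zIn p H := map_mono le_sup_left

theorem zIn_eq : zIn p H = layIn H ⊔ (fpSub p ↥H).map H.subtype := Subgroup.map_sup _ _ _

/-- `O_p(H)` centralises `zIn p H`. -/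
theorem pCoreOf_le_centralizer_zIn : pCoreOf p H ≤ centralizer (zIn p H : Set X) := by
  rintro _ ⟨y, hy, rfl⟩
  have h : layer ↥H ⊔ fpSub p ↥H ≤ centralizer {y} := by
    refine sup_le (fun z hz => mem_centralizer_singleton_iff.2 (mem_centralizer_iff.1
      (Components.Layer.fitting_le_centralizer_layer (Cores.pCore_le_fittingSubgroup p hy)) z hz)) ?_
    rw [fpSub, closure_le]
    rintro x ⟨hx, hxp⟩
    refine mem_centralizer_singleton_iff.2 (Subgroup.commute_of_normal_of_disjoint _ _ inferInstance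
      inferInstance ?_ y x hy (fitting_mem_pPrimeCore hx hxp)).eq.symm
    exact disjoint_iff.2 (Cores.pCore_inf_pPrimeCore p)
  rintro _ ⟨z, hz, rfl⟩
  exact congrArg Subtype.val (mem_centralizer_singleton_iff.1 (h hz))

/-- An element whose commutators with `zIn` lie in a central `p`-subgroup centralises it. -/
theorem commute_zIn_of_comm (hU : IsPGroup p U) (hUc : U ≤ centralizer (zIn p H : Set X))
    (hUle : U ≤ zIn p H) {q : X} (h : ∀ z ∈ zIn p H, q * z * q⁻¹ * z⁻¹ ∈ U) :
    q ∈ centralizer (zIn p H : Set X) := by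
  have key : zIn p H ≤ centralizer {q} := by
    refine zIn_eq.le.trans (sup_le ?_ ?_)
    · have hperf : layIn H ≤ ⁅layIn H, layIn H⁆ := by
        rw [layIn, ← map_commutator, Components.Layer.commutator_layer_self]
      refine hperf.trans (commutator_le.2 fun x hx y hy => ?_)
      set w := q * x * q⁻¹ * x⁻¹ with hw
      set v := q * y * q⁻¹ * y⁻¹ with hv
      have hwU : w ∈ U := h x (layIn_le_zIn hx)
      have hvU : v ∈ U := h y (layIn_le_zIn hy)
      have c : ∀ {u z : X}, u ∈ U → z ∈ zIn p H → Commute u z := fun hu hz =>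
        (mem_centralizer_iff.1 (hUc hu) _ hz).symm
      have e : q * ⁅x, y⁆ * q⁻¹ = ⁅x, y⁆ := by
        calc q * ⁅x, y⁆ * q⁻¹ = ⁅w * x, v * y⁆ := by
              rw [hw, hv, commutatorElement_def, commutatorElement_def]; group
          _ = ⁅x, y⁆ := by
              have hxz := layIn_le_zIn (p := p) hx
              have hyz := layIn_le_zIn (p := p) hy
              rw [commutatorElement_def, commutatorElement_def]
              calc w * x * (v * y) * (w * x)⁻¹ * (v * y)⁻¹ =
                  w * (x * v) * y * x⁻¹ * w⁻¹ * y⁻¹ * v⁻¹ := by group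
                _ = w * v * (x * y * x⁻¹) * (w⁻¹ * y⁻¹) * v⁻¹ := by rw [← (c hvU hxz).eq]; group
                _ = w * v * (x * y * x⁻¹ * y⁻¹) * (w⁻¹ * v⁻¹) := by
                  rw [((c hwU hyz).inv_left.inv_right).eq]; group
                _ = (x * y * x⁻¹ * y⁻¹) * (w * v * (w⁻¹ * v⁻¹)) := by
                  rw [((c (U.mul_mem hwU hvU) (mul_mem (mul_mem (mul_mem hxz hyz) (inv_mem hxz))
                    (inv_mem hyz)))).eq]; group
                _ = x * y * x⁻¹ * y⁻¹ := by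
                  rw [show Commute w⁻¹ v⁻¹ from (c hwU (hUle hvU)).inv_left.inv_right]; group
      exact mem_centralizer_singleton_iff.2 (mul_inv_eq_iff_eq_mul.1 e).symm
    · rw [fpSub, MonoidHom.map_closure, closure_le]
      rintro _ ⟨x, ⟨hxF, hxp⟩, rfl⟩
      have hxz : (x : X) ∈ zIn p H := ⟨x, mem_sup_right (subset_closure ⟨hxF, hxp⟩), rfl⟩
      set w := q * (x : X) * q⁻¹ * (x : X)⁻¹ with hw
      have hc : Commute w (x : X) := (mem_centralizer_iff.1 (hUc (h _ hxz)) _ hxz).symm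
      have h1 : w ^ orderOf (x : X) = 1 := by
        have h2 : (q * (x : X) * q⁻¹) ^ orderOf (x : X) = 1 := by
          rw [conj_pow, pow_orderOf_eq_one, mul_one, mul_inv_cancel]
        rwa [show q * (x : X) * q⁻¹ = w * x by rw [hw, inv_mul_cancel_right], hc.mul_pow,
          pow_orderOf_eq_one, mul_one] at h2
      have hw1 : w = 1 := HHS57.eq_one_of_isPGroup_of_not_dvd Fact.out hU (h _ hxz) fun hd =>
        (Fact.out : p.Prime).not_dvd_one ((Subgroup.orderOf_coe x ▸ hxp : (orderOf (x : X)).Coprime p) ▸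
          Nat.dvd_gcd (hd.trans (orderOf_dvd_of_pow_eq_one h1)) dvd_rfl)
      exact mem_centralizer_singleton_iff.2
        (mul_inv_eq_iff_eq_mul.1 (mul_inv_eq_one.1 hw1)).symm
  exact mem_centralizer_iff.2 fun z hz => mem_centralizer_singleton_iff.1 (key hz)

/-- `zIn` of a normal subgroup. -/
theorem zIn_mono (hHH : H ≤ H') (hn : H' ≤ normalizer (H : Set X)) : zIn p H ≤ zIn p H' := by
  set S := H.subgroupOf H' with hS
  haveI : S.Normal := normal_subgroupOf_of_le_normalizer hn
  set φ : ↥S ≃* ↥H := subgroupOfEquivOfLe hHH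
  have e1 : layIn H = ((layer ↥S).map S.subtype).map H'.subtype := by
    rw [layIn, ← Components.Layer.map_layer φ, Subgroup.map_map, Subgroup.map_map]; rfl
  rw [zIn_eq, zIn_eq]
  refine sup_le_sup ?_ ?_
  · rw [e1]
    exact map_mono (FStarTools.map_layer_le_layer (Normal.isSubnormal inferInstance))
  · rw [fpSub, fpSub, MonoidHom.map_closure, MonoidHom.map_closure]
    refine closure_mono ?_
    rintro _ ⟨x, ⟨hx, hxp⟩, rfl⟩
    rw [← Cores.map_fittingSubgroup_equiv φ] at hx
    obtain ⟨z, hz, rfl⟩ := hx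
    refine ⟨(z : ↥H'), ⟨?_, ?_⟩, rfl⟩
    · exact ((FStarTools.map_fitting_subnormal (Normal.isSubnormal inferInstance)).le
        ⟨z, hz, rfl⟩).1
    · rwa [Subgroup.orderOf_coe, ← MulEquiv.orderOf_eq φ]

/-- The fixed subgroup of one element. -/
abbrev cG (G : Subgroup X) (c : X) : Subgroup X := G ⊓ centralizer {c}

/-- The hypothesis. -/
structure Setup (p r : ℕ) (G A : Subgroup X) (e f : X) : Prop where
  two : Two r e f A
  fne : f ≠ 1
  ene : ∀ t : ℕ, e * f ^ t ≠ 1
  norm : A ≤ normalizer (G : Set X)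
  co : ¬ r ∣ Nat.card G
  loc : ∀ c ∈ A, c ≠ 1 → zIn p (cG G c) ≤ centralizer (A : Set X)

namespace Setup

variable {G A : Subgroup X} {e f c b : X}

theorem act (h : Setup p r G A e f) : Act A G := h.two.act h.norm h.co

theorem norm_cG (h : Setup p r G A e f) (hc : c ∈ A) : A ≤ normalizer (cG G c : Set X) :=
  Coprime.le_normalizer_inf h.norm ((h.two.le_centralizer_singleton hc).trans le_normalizer)

theorem act_cG (h : Setup p r G A e f) (hc : c ∈ A) : Act A (cG G c) :=
  h.act.sub inf_le_left (h.norm_cG hc)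

theorem cen_le_cG (hc : c ∈ A) : G ⊓ centralizer (A : Set X) ≤ cG G c :=
  inf_le_inf_left _ (centralizer_le (Set.singleton_subset_iff.2 hc))

theorem diff_mem_hIn (h : Setup p r G A e f) (hc : c ∈ A) (hc1 : c ≠ 1) {g : X}
    (hg : g ∈ cG G c) (hb : b ∈ A) : g⁻¹ * (b * g * b⁻¹) ∈ hIn p (cG G c) := by
  refine ⟨(cG G c).mul_mem ((cG G c).inv_mem hg) (Flavell42.conj_mem (h.norm_cG hc hb) hg),
    mem_centralizer_iff.2 fun z hz => ?_⟩
  have h1 : g * z * g⁻¹ ∈ zIn p (cG G c) :=
    Flavell42.conj_mem (normalizer_le_normalizer_zIn (le_normalizer hg)) hz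
  have c1 := mem_centralizer_iff.1 (h.loc c hc hc1 h1) b hb
  have c2 := mem_centralizer_iff.1 (h.loc c hc hc1 hz) b hb
  calc z * (g⁻¹ * (b * g * b⁻¹)) = g⁻¹ * (g * z * g⁻¹ * b) * g * b⁻¹ := by group
    _ = g⁻¹ * (b * (g * z * g⁻¹)) * g * b⁻¹ := by rw [c1]
    _ = g⁻¹ * (b * g) * (z * b⁻¹) := by group
    _ = g⁻¹ * (b * g) * (b⁻¹ * z) := by
      rw [(show Commute b z from c2).inv_left.eq]
    _ = g⁻¹ * (b * g * b⁻¹) * z := by group

theorem cen_of_centralizes (h : Setup p r G A e f) (hc : c ∈ A) (hc1 : c ≠ 1) {d : X}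
    (hd : d ∈ hIn p (cG G c)) (hdp : ¬ p ∣ orderOf d)
    (hy : ∀ y ∈ pCoreOf p (cG G c), d * y = y * d) :
    d ∈ centralizer (A : Set X) ∧ d ∈ centralizer (hIn p (cG G c) : Set X) := by
  have hz := mem_zIn_of_centralizes hd ((Fact.out : p.Prime).coprime_iff_not_dvd.2 hdp).symm hy
  exact ⟨h.loc c hc hc1 hz, mem_centralizer_iff.2 fun x hx =>
    (mem_centralizer_iff.1 hx.2 d hz).symm⟩

/-- A normal invariant `p'`-subgroup of `C_G(c)` is centralised by `A`. -/
theorem normal_pPrime_le (h : Setup p r G A e f) (hc : c ∈ A) (hc1 : c ≠ 1) (hN : N ≤ cG G c)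
    (hn : cG G c ≤ normalizer (N : Set X)) (hA : A ≤ normalizer (N : Set X))
    (hp : ¬ p ∣ Nat.card N) : N ≤ centralizer (A : Set X) := by
  intro x hx
  refine mem_centralizer_iff.2 fun b hb => ?_
  have hd : x⁻¹ * (b * x * b⁻¹) ∈ N := mul_mem (inv_mem hx) (Flavell42.conj_mem (hA hb) hx)
  have hdp : ¬ p ∣ orderOf (x⁻¹ * (b * x * b⁻¹)) := fun hd' =>
    hp (hd'.trans (orderOf_dvd_natCard N hd))
  obtain ⟨h1, -⟩ := h.cen_of_centralizes hc hc1 (h.diff_mem_hIn hc hc1 (hN hx) hb) hdp fun y hy =>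
    (commute_of_normal_coprime (CosetGraph.SylowIn.isPGroup_pCoreOf p _) hp
      ((CosetGraph.SylowIn.pCoreOf_le p _).trans hn)
      (hN.trans (CosetGraph.SylowIn.le_normalizer_pCoreOf p _)) hy hd).symm
  refine commute_of_comm_diff Fact.out (h.two.pow_eq_one hb) (mem_centralizer_iff.1 h1 b hb) ?_
  exact fun hd' => h.co ((hd'.trans (orderOf_dvd_natCard N hd)).trans
    (card_dvd_of_le (hN.trans inf_le_left)))

variable {K : ∀ (X : Type u) [Group X], Subgroup X → Subgroup X} {a : X}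

/-- The first step. -/
theorem initial (h : Setup p r G A e f) (hK : KFun p K) (ha : a ∈ A) (ha1 : a ≠ 1) :
    cG G a ≤ normalizer (K X (pInv p A (cG G a)) : Set X) := by
  set Ga := cG G a with hGa
  set Z := zIn p Ga with hZ
  set Hh := hIn p Ga with hHh
  set Q0 := pInv p A Ga with hQ0
  have hact : Act A Ga := h.act_cG ha
  have hGZ : Ga ≤ normalizer (Z : Set X) := le_normalizer.trans normalizer_le_normalizer_zIn
  have hGH : Ga ≤ normalizer (Hh : Set X) := le_normalizer.trans normalizer_le_normalizer_hIn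
  have hAH : A ≤ normalizer (Hh : Set X) := (h.norm_cG ha).trans normalizer_le_normalizer_hIn
  have hZA : Z ≤ centralizer (A : Set X) := h.loc a ha ha1
  have hQp : IsPGroup p Q0 := Flavell42.isPGroup_pInv hact
  have hCQ : Ga ⊓ centralizer (A : Set X) ≤ normalizer (Q0 : Set X) := fun x hx =>
    Flavell42.centralizer_le_normalizer_pInv (le_normalizer hx.1) hx.2
  have hZQ : Z ≤ normalizer (Q0 : Set X) := (le_inf zIn_le hZA).trans hCQ
  have hQH : Q0 ≤ Hh := by
    refine le_inf Flavell42.pInv_le fun q hq => ?_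
    refine commute_zIn_of_comm (U := Q0 ⊓ Z) (hQp.to_le inf_le_left) ?_ inf_le_right fun z hz =>
      ⟨?_, Z.mul_mem (Flavell42.conj_mem (hGZ (Flavell42.pInv_le hq)) hz) (Z.inv_mem hz)⟩
    · refine le_trans ?_ pCoreOf_le_centralizer_zIn
      refine le_trans ?_ (Flavell42.pCoreOf_mono_normal zIn_le hGZ)
      exact CosetGraph.SylowIn.le_pCoreOf inf_le_right (Coprime.le_normalizer_inf hZQ le_normalizer)
        (hQp.to_le inf_le_left)
    · rw [show q * z * q⁻¹ * z⁻¹ = q * (z * q⁻¹ * z⁻¹) by group]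
      exact mul_mem hq (Flavell42.conj_mem (hZQ hz) (inv_mem hq))
  have hHG : Hh ≤ Ga := hIn_le
  have hQeq : pInv p A Hh = Q0 := by
    rw [Flavell42.pInv_eq_inf hact hHG hAH hGH, inf_eq_left]
    exact hQH
  -- normalise through `Hh`
  set O := pPrimeIn p Hh
  have hOp : ¬ p ∣ Nat.card O := not_dvd_pPrimeIn
  have hGO : Ga ≤ normalizer (O : Set X) := hGH.trans normalizer_le_normalizer_pPrimeIn
  have hAO : A ≤ normalizer (O : Set X) := hAH.trans normalizer_le_normalizer_pPrimeIn
  have hOA : O ≤ centralizer (A : Set X) :=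
    h.normal_pPrime_le ha ha1 (pPrimeIn_le.trans hHG) hGO hAO hOp
  have hcY : ∀ x ∈ O, ∀ y ∈ pCoreOf p Ga, x * y = y * x := fun x hx y hy =>
    (commute_of_normal_coprime (CosetGraph.SylowIn.isPGroup_pCoreOf p _) hOp
      ((CosetGraph.SylowIn.pCoreOf_le p _).trans hGO)
      ((pPrimeIn_le.trans hHG).trans (CosetGraph.SylowIn.le_normalizer_pCoreOf p _)) hy hx).symm
  have hdvd : ∀ {x : X}, x ∈ O → ¬ p ∣ orderOf x := fun hx hd =>
    hOp (hd.trans (orderOf_dvd_natCard O hx))
  have hnK := normK hK (Fact.out : r.Prime) (h.two.pow_eq_one ha) ha (hact.sub hHG hAH)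
    (fun hd => h.co (hd.trans (card_dvd_of_le (hHG.trans inf_le_left)))) (O := O)
    (J := pCoreOf p Ga) pPrimeIn_le (hHG.trans hGO) hAO hOp
    (fun x hx => (h.cen_of_centralizes ha ha1 (pPrimeIn_le hx.1) (hdvd hx.1) (hcY x hx.1)).2)
    (fun x hx => hOA hx.1)
    (fun y hy => ⟨CosetGraph.SylowIn.pCoreOf_le p _ hy, pCoreOf_le_centralizer_zIn hy⟩)
    (hHG.trans (CosetGraph.SylowIn.le_normalizer_pCoreOf p _))
    (fun y hy => by
      obtain ⟨k, hk⟩ := CosetGraph.SylowIn.isPGroup_pCoreOf p Ga ⟨y, hy⟩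
      exact ⟨k, (show y ^ p ^ k = 1 from congrArg Subtype.val hk) ▸ one_mem _⟩)
    (fun x hx hcop hxy => by
      have hxp : ¬ p ∣ orderOf x := fun hd => (Fact.out : p.Prime).not_dvd_one
        (hcop ▸ Nat.dvd_gcd hd dvd_rfl)
      have hcen := (h.cen_of_centralizes ha ha1 hx hxp fun y hy => ?_).2
      · refine le_pPrimeIn (N := zpowers x) (zpowers_le.2 hx) ?_ ?_ (mem_zpowers x)
        · intro g hg
          refine Flavell42.mem_normalizer_of_forall ?_
          rintro _ ⟨i, rfl⟩
          have hc : Commute g x := mem_centralizer_iff.1 hcen g hg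
          rw [(hc.zpow_right i).eq, mul_inv_cancel_right]
          exact zpow_mem (mem_zpowers x) i
        · rw [Nat.card_zpowers]; exact hxp
      · have h1 : x * y * x⁻¹ * y⁻¹ = 1 := HHS57.eq_one_of_isPGroup_of_not_dvd Fact.out
          (CosetGraph.SylowIn.isPGroup_pCoreOf p Ga)
          (mul_mem (Flavell42.conj_mem (CosetGraph.SylowIn.le_normalizer_pCoreOf p _ (hHG hx)) hy)
            (inv_mem hy)) (hdvd (hxy y hy))
        exact mul_inv_eq_iff_eq_mul.1 (mul_inv_eq_one.1 h1))
  rw [hQeq] at hnK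
  intro g hg
  obtain ⟨n, hn, hgn⟩ := Coprime.exists_mul_fixed hAH
    (hact.cop.coprime_dvd_right (card_dvd_of_le hHG)) (.inl h.two.solvable) (k := g)
    fun b hb => h.diff_mem_hIn ha ha1 hg hb
  rw [show g = g * n * n⁻¹ by group]
  exact mul_mem (hK.normalizer_le Q0 (hCQ ⟨mul_mem hg (hHG hn), hgn⟩))
    (inv_mem (hnK ⟨hn, (hHG hn).2⟩))

end Setup

end Cfsg.Agent.Lib.Flavell57
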