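import Cfsg.Agent.Lib.Flavell57.Climb
import Cfsg.Agent.Lib.Transfer.PResidual

/-!
# Coprime action centralising local residual layers (helper57)

`centralizes`: given a functor as in `KFun`, a noncyclic abelian `r`-group `R` acting coprimely on
`G` which centralises `O^p(F*(C_G(a)))` for all its nontrivial elements `a` centralises `O^p(F*(G))`.
-/

set_option autoImplicit false
set_option linter.style.haveILetI false
set_option linter.unusedSectionVars false

namespace Cfsg.Agent.Lib.Flavell57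

open Cfsg Cfsg.Agent.Lib
open Cfsg.Agent.Lib.Flavell42 (pInv Act)
open Subgroup
open scoped commutatorElement

universe u

variable {X : Type u} [Group X] [Finite X] {p r : ℕ} [Fact p.Prime] [Fact r.Prime]
  {K : ∀ (X : Type u) [Group X], Subgroup X → Subgroup X}

/-- The residual subgroup of the statement. -/
abbrev resIn (p : ℕ) (G : Subgroup X) : Subgroup X :=
  ((pResidual p ↥(generalizedFittingSubgroup ↥G)).map
    (generalizedFittingSubgroup ↥G).subtype).map G.subtype

/-- A perfect subgroup of a `p`-group is trivial. -/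
theorem eq_bot_of_perfect_pGroup {Q : Type u} [Group Q] [Finite Q] {S : Subgroup Q}
    (hS : IsPGroup p S) (hperf : S ≤ ⁅S, S⁆) : S = ⊥ := by
  by_contra hne
  haveI := Coprime.isSolvable_of_isPGroup hS
  haveI : Nontrivial S := (Subgroup.nontrivial_iff_ne_bot S).2 hne
  refine (Group.IsSolvable.commutator_lt_top_of_nontrivial S).ne
    (map_injective S.subtype_injective ?_)
  rw [map_subtype_commutator, ← MonoidHom.range_eq_map, range_subtype]
  exact le_antisymm (commutator_le_self S) hperf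

theorem zIn_le_resIn {G : Subgroup X} : zIn p G ≤ resIn p G := by
  set F := generalizedFittingSubgroup ↥G with hF
  refine map_mono (sup_le ?_ ?_)
  · set L' := (layer ↥G).subgroupOf F with hL'
    have hLF : layer ↥G ≤ F := le_sup_left
    have hperf : L' ≤ ⁅L', L'⁆ := by
      refine le_of_eq (map_injective F.subtype_injective ?_)
      rw [map_commutator, map_subgroupOf_eq_of_le hLF, Components.Layer.commutator_layer_self]
    set g := QuotientGroup.mk' (pResidual p ↥F)
    have h1 : L'.map g = ⊥ := eq_bot_of_perfect_pGroup (p := p)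
      (Transfer.PResidual.isPGroup_quotient.to_subgroup _) (by rw [← map_commutator]; exact map_mono hperf)
    rw [Subgroup.map_eq_bot_iff, QuotientGroup.ker_mk'] at h1
    exact fun x hx => ⟨⟨x, hLF hx⟩, h1 hx, rfl⟩
  · refine (closure_le _).2 ?_
    rintro x ⟨hx, hxp⟩
    exact ⟨⟨x, mem_sup_right hx⟩, Transfer.PResidual.mem_pResidual (by rwa [← Subgroup.orderOf_coe]), rfl⟩

theorem resIn_le_zIn {G : Subgroup X} : resIn p G ≤ zIn p G := by
  set F := generalizedFittingSubgroup ↥G with hF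
  set Z0 := layer ↥G ⊔ fpSub p ↥G with hZ0
  refine map_mono (map_le_iff_le_comap.2 (Transfer.PResidual.pResidual_le_iff.2 fun x hx => ?_))
  obtain ⟨l, hl, v, hv, hlv⟩ := mem_sup_of_normal_left.1 x.2
  haveI : Z0.Characteristic := by
    refine characteristic_iff_map_le.mpr fun φ => ?_
    rw [Subgroup.map_sup]
    exact sup_le_sup (characteristic_iff_map_le.mp inferInstance φ)
      (characteristic_iff_map_le.mp inferInstance φ)
  set g := QuotientGroup.mk' Z0
  have hp : p.Prime := Fact.out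
  set k := (orderOf v).factorization p with hk
  have hvk : v ^ p ^ k ∈ Z0 := by
    refine mem_sup_right (subset_closure ⟨pow_mem hv _, ?_⟩)
    refine Nat.Coprime.coprime_dvd_left (orderOf_dvd_of_pow_eq_one (?_ : (v ^ p ^ k) ^ (orderOf v / p ^ k) = 1))
      ((hp.coprime_iff_not_dvd).2 (Nat.not_dvd_ordCompl hp (orderOf_pos v).ne')).symm
    rw [← pow_mul, Nat.ordProj_mul_ordCompl_eq_self, pow_orderOf_eq_one]
  have hgx : g (x : ↥G) = g v := by
    rw [← hlv, map_mul, show g l = 1 from (QuotientGroup.eq_one_iff l).2 (mem_sup_left hl), one_mul]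
  refine mem_of_pow_mem hp (k := k) (fun hd => hp.not_dvd_one
    (hx ▸ Nat.dvd_gcd ((Subgroup.orderOf_coe x).symm ▸ hd : p ∣ orderOf x) dvd_rfl)) ?_
  show (x : ↥G) ^ p ^ k ∈ Z0
  refine (QuotientGroup.eq_one_iff _).1 (show g ((x : ↥G) ^ p ^ k) = 1 from ?_)
  rw [map_pow, hgx, ← map_pow]
  exact (QuotientGroup.eq_one_iff _).2 hvk

theorem layer_layIn (G : Subgroup X) : layer ↥(layIn G) = ⊤ := by
  have e := (layer ↥G).equivMapOfInjective G.subtype G.subtype_injective
  show layer ↥((layer ↥G).map G.subtype) = ⊤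
  rw [← Components.Layer.map_layer e, layer_layer]
  exact map_top_of_surjective _ e.surjective

/-- The perfect case. -/
theorem le_centralizer_of_setup {L A : Subgroup X} {e f : X} (h : Setup p r L A e f) (hp2 : p ≠ 2)
    (hK : KFun p K) (hperf : L ≤ ⁅L, L⁆)
    (hcore : ∀ U ≤ L, L ≤ normalizer (U : Set X) → IsPGroup p U → L ≤ centralizer (U : Set X)) :
    L ≤ centralizer (A : Set X) := by
  have hr : r.Prime := Fact.out
  set P := pInv p A L with hP
  have hPp : IsPGroup p P := Flavell42.isPGroup_pInv h.act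
  have hPL : P ≤ L := Flavell42.pInv_le
  have hLK : L ≤ normalizer (K X P : Set X) := h.two.gen h.norm h.co
    (h.climb hp2 hK h.two.mem_f h.fne)
    fun t => h.climb hp2 hK (mul_mem h.two.mem_e (pow_mem h.two.mem_f t)) (h.ene t)
  have hLc : L ≤ centralizer (K X P : Set X) :=
    hcore _ ((hK.le X P).trans hPL) hLK (hPp.to_le (hK.le X P))
  have hPK : P ≤ K X P := le_trans (le_inf le_rfl (hPL.trans hLc)) (hK.cent X P hPp)
  have hPc : ∀ z ∈ P, ∀ x ∈ L, x * z = z * x := fun z hz x hx =>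
    (mem_centralizer_iff.1 (hLc hx) z (hPK hz)).symm
  have hAP : A ≤ normalizer (P : Set X) := Flavell42.act_le_normalizer_pInv h.act
  -- every commutator with `A` is central
  have hloc : ∀ c ∈ A, c ≠ 1 → ∀ g ∈ cG L c, ∀ b ∈ A, g⁻¹ * (b * g * b⁻¹) ∈ P := by
    intro c hc hc1 g hg b hb
    have hYP : pCoreOf p (cG L c) ≤ P := by
      refine Flavell42.le_pInv h.act ((CosetGraph.SylowIn.pCoreOf_le p _).trans inf_le_left)
        (CosetGraph.SylowIn.isPGroup_pCoreOf p _)
        ((h.norm_cG hc).trans Flavell42.normalizer_le_normalizer_pCoreOf)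
        ((Setup.cen_le_cG hc).trans (CosetGraph.SylowIn.le_normalizer_pCoreOf p _))
    set d := g⁻¹ * (b * g * b⁻¹) with hd
    set Hc := hIn p (cG L c) with hHc
    have hdH : d ∈ Hc := h.diff_mem_hIn hc hc1 hg hb
    have hHL : Hc ≤ L := hIn_le.trans inf_le_left
    have hfix : ∀ v ∈ Hc, ¬ p ∣ orderOf v →
        v ∈ centralizer (A : Set X) ∧ v ∈ centralizer (Hc : Set X) := fun v hv hvp =>
      h.cen_of_centralizes hc hc1 hv hvp fun y hy => hPc y (hYP hy) v (hHL hv)
    obtain ⟨u, hu, v, hv, huv⟩ := exists_decomp (p := p) (H := Hc) (fun x hx => mem_center_iff.2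
      fun g => Subtype.ext (mem_centralizer_iff.1
        (hfix x x.2 (by rwa [Subgroup.orderOf_coe])).2 g g.2)) ⟨d, hdH⟩
    have huP : (u : X) ∈ P := hYP (Flavell42.pCoreOf_mono_normal hIn_le
      (le_normalizer.trans normalizer_le_normalizer_hIn) ⟨u, hu, rfl⟩)
    have hvA := (hfix v v.2 (by rwa [Subgroup.orderOf_coe])).1
    have hduv : d = (u : X) * v := congrArg Subtype.val huv
    have hn : ∀ n : ℕ, ∃ z ∈ P, b ^ n * g * (b ^ n)⁻¹ = g * (v : X) ^ n * z := by
      intro n
      induction n with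
      | zero => exact ⟨1, one_mem _, by simp⟩
      | succ n ih =>
        obtain ⟨z, hz, ih⟩ := ih
        refine ⟨(u : X) * (b * z * b⁻¹), mul_mem huP (Flavell42.conj_mem (hAP hb) hz), ?_⟩
        have hc : Commute b ((v : X) ^ n) :=
          (show Commute b (v : X) from mem_centralizer_iff.1 hvA b hb).pow_right n
        have hu' : Commute (u : X) ((v : X) ^ (n + 1)) :=
          (hPc _ huP _ (pow_mem (hHL v.2) _)).symm
        calc b ^ (n + 1) * g * (b ^ (n + 1))⁻¹ = b * (b ^ n * g * (b ^ n)⁻¹) * b⁻¹ := by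
              rw [pow_succ']; group
          _ = g * d * (b * (v : X) ^ n * b⁻¹) * (b * z * b⁻¹) := by rw [ih, hd]; group
          _ = g * ((u : X) * (v : X) ^ (n + 1)) * (b * z * b⁻¹) := by
            rw [hc.eq, mul_inv_cancel_right, hduv, pow_succ']; group
          _ = _ := by rw [hu'.eq]; group
    obtain ⟨z, hz, hrz⟩ := hn r
    rw [h.two.pow_eq_one hb, one_mul, inv_one, mul_one, mul_assoc, eq_comm, mul_eq_left] at hrz
    have hvr : (v : X) ^ r ∈ P := by rw [eq_inv_of_mul_eq_one_left hrz]; exact inv_mem hz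
    have hvP : (v : X) ∈ P := mem_of_pow_mem (k := 1) hr
      (fun hd' => h.co (hd'.trans (orderOf_dvd_natCard L (hHL v.2)))) (by rwa [pow_one])
    rw [hduv]; exact mul_mem huP hvP
  let S : Subgroup X :=
    { carrier := {g | g ∈ L ∧ ∀ b ∈ A, g⁻¹ * (b * g * b⁻¹) ∈ P}
      one_mem' := ⟨one_mem _, fun b _ => by simp [P.one_mem]⟩
      mul_mem' := fun {x y} hx hy => ⟨mul_mem hx.1 hy.1, fun b hb => by
        have hc := hPc _ (hx.2 b hb) y hy.1
        rw [show (x * y)⁻¹ * (b * (x * y) * b⁻¹) =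
          y⁻¹ * (x⁻¹ * (b * x * b⁻¹) * y) * (y⁻¹ * (b * y * b⁻¹)) by group, ← hc,
          inv_mul_cancel_left]
        exact mul_mem (hx.2 b hb) (hy.2 b hb)⟩
      inv_mem' := fun {x} hx => ⟨inv_mem hx.1, fun b hb => by
        have hc := hPc _ (hx.2 b hb) x hx.1
        rw [show x⁻¹⁻¹ * (b * x⁻¹ * b⁻¹) = x * (x⁻¹ * (b * x * b⁻¹))⁻¹ * x⁻¹ by group,
          ((show Commute x (x⁻¹ * (b * x * b⁻¹)) from hc).inv_right).eq, mul_inv_cancel_right]
        exact inv_mem (hx.2 b hb)⟩ }
  have hLS : L ≤ S := h.two.gen h.norm h.co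
    (fun g hg => ⟨hg.1, fun b hb => hloc f h.two.mem_f h.fne g hg b hb⟩)
    fun t g hg => ⟨hg.1, fun b hb =>
      hloc _ (mul_mem h.two.mem_e (pow_mem h.two.mem_f t)) (h.ene t) g hg b hb⟩
  refine hperf.trans (commutator_le.2 fun x hx y hy => mem_centralizer_iff.2 fun b hb => ?_)
  obtain ⟨z, hz, hxz⟩ : ∃ z ∈ P, b * x * b⁻¹ = x * z := ⟨_, (hLS hx).2 b hb, by group⟩
  obtain ⟨w, hw, hyw⟩ : ∃ w ∈ P, b * y * b⁻¹ = y * w := ⟨_, (hLS hy).2 b hb, by group⟩
  have c : ∀ {g z : X}, g ∈ L → z ∈ P → Commute g z := fun hg hz => hPc _ hz _ hg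
  have e1 : b * ⁅x, y⁆ * b⁻¹ = ⁅x, y⁆ := by
    rw [show b * ⁅x, y⁆ * b⁻¹ = ⁅b * x * b⁻¹, b * y * b⁻¹⁆ by
      rw [commutatorElement_def, commutatorElement_def]; group, hxz, hyw, commutatorElement_def,
      commutatorElement_def]
    calc x * z * (y * w) * (x * z)⁻¹ * (y * w)⁻¹ =
        x * (z * y) * (w * z⁻¹) * x⁻¹ * w⁻¹ * y⁻¹ := by group
      _ = x * y * (z * z⁻¹) * w * x⁻¹ * w⁻¹ * y⁻¹ := by
        rw [← (c hy hz).eq, (c (hPL hw) (inv_mem hz)).eq]; group
      _ = x * y * (w * x⁻¹) * w⁻¹ * y⁻¹ := by group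
      _ = x * y * x⁻¹ * y⁻¹ := by rw [← (c (inv_mem hx) hw).eq]; group
  exact mul_inv_eq_iff_eq_mul.1 e1

/-- The theorem, given the functor. -/
theorem centralizes (hp2 : p ≠ 2) (hK : KFun p K) {G R : Subgroup X} (hR : IsPGroup r R)
    (hco : ¬ r ∣ Nat.card G) (hnorm : R ≤ normalizer (G : Set X)) [IsMulCommutative R]
    (hnc : ¬ IsCyclic R)
    (hloc : ∀ a ∈ R, a ≠ 1 → R ≤ centralizer (resIn p (cG G a) : Set X)) :
    R ≤ centralizer (resIn p G : Set X) := by
  have hr : r.Prime := Fact.out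
  obtain ⟨q, hq, hqR, e, he, f, hf, heq, hfq, hfB, hetB⟩ :=
    Coprime.exists_pair_of_not_cyclic_mod (A := R) (B₀ := ⊥) bot_le (by
      rintro ⟨a, ha, h⟩
      rw [bot_sup_eq] at h
      exact hnc (h ▸ inferInstance))
  obtain ⟨i, hi⟩ := IsPGroup.iff_card.1 hR
  rw [hi] at hqR
  obtain rfl := (Nat.prime_dvd_prime_iff_eq hq hr).1 (hq.dvd_of_dvd_pow hqR)
  rw [mem_bot] at heq hfq
  have hf1 : f ≠ 1 := fun h => hfB (mem_bot.2 h)
  have he1 : ∀ t : ℕ, e * f ^ t ≠ 1 := fun t h => hetB t (mem_bot.2 h)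
  set A := closure ({e, f} : Set X) with hA
  have hAR : A ≤ R := by
    rw [hA, closure_le]; exact Set.insert_subset he (Set.singleton_subset_iff.2 hf)
  have hef : Commute e f :=
    congrArg Subtype.val (IsMulCommutative.is_comm.comm (⟨e, he⟩ : R) ⟨f, hf⟩)
  have hAn : A ≤ normalizer (G : Set X) := hAR.trans hnorm
  have hlocR : ∀ c ∈ A, c ≠ 1 → zIn p (cG G c) ≤ centralizer (R : Set X) := fun c hc hc1 =>
    zIn_le_resIn.trans (le_centralizer_iff.1 (hloc c (hAR hc) hc1))
  have hlocA : ∀ c ∈ A, c ≠ 1 → zIn p (cG G c) ≤ centralizer (A : Set X) := fun c hc hc1 =>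
    (hlocR c hc hc1).trans (centralizer_le (SetLike.coe_subset_coe.2 hAR))
  have hG : Setup p q G A e f := ⟨⟨heq, hfq, hef, rfl⟩, hf1, he1, hAn, hco, hlocA⟩
  -- the layer
  set L := layIn G with hL
  have hLG : L ≤ G := map_subtype_le _
  have hGL : normalizer (G : Set X) ≤ normalizer (L : Set X) :=
    CharP.normalizer_le_normalizer_map_char _
  have hGLc : ∀ c, cG G c ≤ normalizer (cG L c : Set X) := fun c => Coprime.le_normalizer_inf
    (inf_le_left.trans (le_normalizer.trans hGL)) (inf_le_right.trans le_normalizer)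
  have hLs : Setup p q L A e f := ⟨hG.two, hf1, he1, hAn.trans hGL,
    fun hd => hco (hd.trans (card_dvd_of_le hLG)), fun c hc hc1 =>
      (zIn_mono (inf_le_inf_right _ hLG) (hGLc c)).trans (hlocA c hc hc1)⟩
  have hLL : L ≤ zIn p L := by
    refine le_trans (le_of_eq ?_) (layIn_le_zIn (H := L))
    rw [layIn, layer_layIn, ← MonoidHom.range_eq_map, range_subtype]
  have hperf : L ≤ ⁅L, L⁆ := by
    rw [hL, layIn, ← map_commutator, Components.Layer.commutator_layer_self]
  have hLA : L ≤ centralizer (A : Set X) := le_centralizer_of_setup hLs hp2 hK hperf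
    fun U hU hn hUp => le_centralizer_iff.1 (((CosetGraph.SylowIn.le_pCoreOf hU hn hUp).trans
      pCoreOf_le_centralizer_zIn).trans (centralizer_le (SetLike.coe_subset_coe.2 hLL)))
  -- the part from the Fitting subgroup
  set S := (fpSub p ↥G).map G.subtype with hS
  have hSG : S ≤ G := map_subtype_le _
  have hGS : normalizer (G : Set X) ≤ normalizer (S : Set X) :=
    CharP.normalizer_le_normalizer_map_char _
  have hSp : ¬ p ∣ Nat.card S := fun hd => not_dvd_pPrimeIn (p := p) (H := G)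
    (hd.trans (card_dvd_of_le (map_mono ((closure_le _).2 fun x hx =>
      fitting_mem_pPrimeCore hx.1 hx.2))))
  have hSn : Group.IsNilpotent S := Cores.isNilpotent_map _ (Cores.isNilpotent_of_le
    ((closure_le _).2 fun x hx => hx.1) (Cores.fittingSubgroup_isNilpotent (G := ↥G)))
  have hSc : ∀ c, S ⊓ centralizer {c} ≤ zIn p (cG G c) := by
    intro c x hx
    set T := S ⊓ centralizer {c} with hT
    have hTle : T ≤ cG G c := inf_le_inf_right _ hSG
    haveI : (T.subgroupOf (cG G c)).Normal := normal_subgroupOf_of_le_normalizer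
      (Coprime.le_normalizer_inf (inf_le_left.trans (le_normalizer.trans hGS))
        (inf_le_right.trans le_normalizer))
    have hTn : Group.IsNilpotent (T.subgroupOf (cG G c)) :=
      Group.nilpotent_of_mulEquiv (_h := Cores.isNilpotent_of_le inf_le_left hSn)
        (subgroupOfEquivOfLe hTle).symm
    refine ⟨⟨x, hTle hx⟩, mem_sup_right (subset_closure
      ⟨Cores.le_fittingSubgroup hTn (mem_subgroupOf.2 hx), ?_⟩), rfl⟩
    rw [← Subgroup.orderOf_coe]
    exact ((Fact.out : p.Prime).coprime_iff_not_dvd.2 fun hd =>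
      hSp (hd.trans (orderOf_dvd_natCard S hx.1))).symm
  have hSA : S ≤ centralizer (A : Set X) := hG.two.gen (hAn.trans hGS)
    (fun hd => hco (hd.trans (card_dvd_of_le hSG)))
    ((hSc f).trans (hlocA f hG.two.mem_f hf1))
    fun t => (hSc _).trans (hlocA _ (mul_mem hG.two.mem_e (pow_mem hG.two.mem_f t)) (he1 t))
  -- all of `R`
  have hLf : L ≤ cG G f := le_inf hLG
    (hLA.trans (centralizer_le (Set.singleton_subset_iff.2 hG.two.mem_f)))
  refine le_centralizer_iff.1 (resIn_le_zIn.trans (zIn_eq.le.trans (sup_le ?_ ?_)))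
  · exact hLL.trans ((zIn_mono hLf (inf_le_left.trans (le_normalizer.trans hGL))).trans
      (hlocR f hG.two.mem_f hf1))
  · exact fun x hx => hlocR f hG.two.mem_f hf1 (hSc f ⟨hx,
      centralizer_le (Set.singleton_subset_iff.2 hG.two.mem_f) (hSA hx)⟩)

end Cfsg.Agent.Lib.Flavell57
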