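import Cfsg.Agent.Lib.Flavell57.Defs

/-!
# Normalising `K(P)` through a constrained normal section (helper57)

`KFun` is what the proof needs from a Puig-type functor.  `normK`: if `O ⊴ H` has order prime to `p`,
`H / O` is `p`-constrained and `C_O(A)` is central in `H`, then the fixed points of `a ∈ A` in `H`
normalise `K(P)`, `P` the intersection of the invariant Sylow `p`-subgroups of `H`.
-/

set_option autoImplicit false
set_option linter.style.haveILetI false
set_option linter.unusedSectionVars false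

namespace Cfsg.Agent.Lib.Flavell57

open Cfsg Cfsg.Agent.Lib
open Cfsg.Agent.Lib.Flavell42 (pInv Act)
open Cfsg.Agent.Lib.CosetGraph.SylowIn (IsSylowIn)
open Subgroup
open scoped Pointwise

universe u

/-- The properties of the functor that are used. -/
structure KFun (p : ℕ) (K : ∀ (X : Type u) [Group X], Subgroup X → Subgroup X) : Prop where
  le : ∀ (X : Type u) [Group X] [Finite X] (P : Subgroup X), K X P ≤ P
  map : ∀ (X Y : Type u) [Group X] [Finite X] [Group Y] [Finite Y] (f : X →* Y),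
    Function.Injective f → ∀ P : Subgroup X, (K X P).map f = K Y (P.map f)
  cent : ∀ (X : Type u) [Group X] [Finite X] (P : Subgroup X), IsPGroup p P →
    P ⊓ centralizer (K X P : Set X) ≤ K X P
  main : ∀ (X : Type u) [Group X] [Finite X] (R G : Subgroup X), Act R G →
    G ⊓ centralizer (pCoreOf p G : Set X) ≤ pCoreOf p G →
    G ≤ normalizer (K X (pInv p R G) : Set X)

variable {p r : ℕ} {K : ∀ (X : Type u) [Group X], Subgroup X → Subgroup X}
  {X : Type u} [Group X] [Finite X]

theorem KFun.normalizer_le (hK : KFun p K) (P : Subgroup X) :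
    normalizer (P : Set X) ≤ normalizer (K X P : Set X) := by
  intro g hg
  refine Subgroup.mem_normalizer_iff_map_conj_eq.mpr ?_
  rw [hK.map X X _ (MulAut.conj g).injective]
  exact congrArg (K X) (Subgroup.mem_normalizer_iff_map_conj_eq.mp hg)

/-- The restriction of the functor along a homomorphism injective on `P`. -/
theorem KFun.map_of_injOn (hK : KFun p K) {Y : Type u} [Group Y] [Finite Y] (f : X →* Y)
    {P : Subgroup X} (hf : Function.Injective (f.comp P.subtype)) :
    K Y (P.map f) = (K X P).map f := by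
  have e1 := hK.map P X P.subtype P.subtype_injective ⊤
  have e2 := hK.map P Y (f.comp P.subtype) hf ⊤
  rw [← MonoidHom.range_eq_map, Subgroup.range_subtype] at e1
  rw [← Subgroup.map_map, e1] at e2
  rw [e2, ← Subgroup.map_map, ← MonoidHom.range_eq_map, Subgroup.range_subtype]

variable [Fact p.Prime]

theorem isSylowIn_sup {Kp O : Subgroup X} [O.Normal] (hKp : IsPGroup p Kp) (hO : ¬ p ∣ Nat.card O) :
    IsSylowIn p Kp (Kp ⊔ O) := by
  refine ⟨le_sup_left, ?_⟩
  obtain ⟨k, hk⟩ := IsPGroup.iff_card.1 hKp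
  rw [hk]
  congr 1
  have hp : p.Prime := Fact.out
  have h1 : k ≤ (Nat.card (Kp ⊔ O : Subgroup X)).factorization p :=
    (hp.pow_dvd_iff_le_factorization Nat.card_pos.ne').1 (hk ▸ card_dvd_of_le le_sup_left)
  have h2 := ((Nat.factorization_le_iff_dvd Nat.card_pos.ne'
    (mul_ne_zero Nat.card_pos.ne' Nat.card_pos.ne')).2 (Cores.card_sup_dvd_mul Kp O)) p
  rw [Nat.factorization_mul Nat.card_pos.ne' Nat.card_pos.ne', Finsupp.add_apply, hk,
    hp.factorization_pow, Finsupp.single_eq_same, Nat.factorization_eq_zero_of_not_dvd hO,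
    add_zero] at h2
  exact le_antisymm h1 h2

variable {A H O J : Subgroup X} {a : X}

theorem normK_aux (hK : KFun p K) (hr : r.Prime) (ha : a ^ r = 1) (haA : a ∈ A) (hAH : Act A H)
    (hrH : ¬ r ∣ Nat.card H) [O.Normal] (hOH : O ≤ H) (hOp : ¬ p ∣ Nat.card O)
    (hOc : O ⊓ centralizer (A : Set X) ≤ centralizer (H : Set X))
    (hOa : O ⊓ centralizer {a} ≤ centralizer (A : Set X))
    (hJH : J ≤ H) (hHJ : H ≤ normalizer (J : Set X)) (hJp : ∀ y ∈ J, ∃ k, y ^ p ^ k ∈ O)
    (hcon : ∀ x ∈ H, (orderOf x).Coprime p → (∀ y ∈ J, x * y * x⁻¹ * y⁻¹ ∈ O) → x ∈ O) :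
    H ⊓ centralizer {a} ≤ normalizer (K X (pInv p A H) : Set X) := by
  have hp : p.Prime := Fact.out
  set f := QuotientGroup.mk' O with hf
  have hfO : ∀ {x : X}, f x = 1 ↔ x ∈ O := fun {x} => QuotientGroup.eq_one_iff x
  set Q := pInv p A H with hQ
  have hQp : IsPGroup p Q := Flavell42.isPGroup_pInv hAH
  have hQH : Q ≤ H := Flavell42.pInv_le
  have hQO : ∀ {x : X}, x ∈ Q → x ∈ O → x = 1 := fun {x} hxQ hxO =>
    HHS57.eq_one_of_isPGroup_of_not_dvd hp hQp hxQ
      fun hd => hOp (hd.trans (Subgroup.orderOf_dvd_natCard O hxO))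
  -- the image of `H` is `p`-constrained
  have hact : Act (A.map f) (H.map f) := hAH.map f
  have hJcore : J.map f ≤ pCoreOf p (H.map f) := by
    refine CosetGraph.SylowIn.le_pCoreOf (Subgroup.map_mono hJH)
      ((Subgroup.map_mono hHJ).trans (le_normalizer_map f)) ?_
    rintro ⟨_, y, hy, rfl⟩
    obtain ⟨k, hk⟩ := hJp y hy
    refine ⟨k, Subtype.ext ?_⟩
    show f y ^ p ^ k = 1
    rw [← map_pow, hfO]
    exact hk
  set Cb := H.map f ⊓ centralizer (J.map f : Set (X ⧸ O)) with hCb
  have hCbp : IsPGroup p Cb := by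
    refine HHS57.isPGroup_of_forall hp _ ?_
    rintro _ ⟨⟨x, hx, rfl⟩, hxc⟩ hnd
    have hxo : orderOf x ≠ 0 := (orderOf_pos x).ne'
    set k := (orderOf x).factorization p with hk
    have hx' : x ^ p ^ k ∈ O := by
      refine hcon _ (pow_mem hx _) ?_ fun y hy => hfO.1 ?_
      · refine Nat.Coprime.coprime_dvd_left (orderOf_dvd_of_pow_eq_one ?_)
          ((hp.coprime_iff_not_dvd).2 (Nat.not_dvd_ordCompl hp hxo)).symm
        rw [← pow_mul, Nat.ordProj_mul_ordCompl_eq_self, pow_orderOf_eq_one]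
      · have hc : Commute (f x) (f y) := (mem_centralizer_iff.1 hxc (f y) ⟨y, hy, rfl⟩).symm
        rw [map_mul, map_mul, map_mul, map_inv, map_inv, map_pow, (hc.pow_left (p ^ k)).eq,
          mul_inv_cancel_right, mul_inv_cancel]
    have h1 : f x ^ p ^ k = 1 := by rw [← map_pow, hfO]; exact hx'
    obtain ⟨i, -, hi⟩ := (Nat.dvd_prime_pow hp).1 (orderOf_dvd_of_pow_eq_one h1)
    rcases Nat.eq_zero_or_pos i with rfl | hi0
    · exact orderOf_eq_one_iff.1 (by simpa using hi)
    · exact absurd (hi ▸ dvd_pow_self p hi0.ne') hnd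
  have hcons : H.map f ⊓ centralizer (pCoreOf p (H.map f) : Set (X ⧸ O)) ≤
      pCoreOf p (H.map f) := by
    refine (inf_le_inf_left _ (Subgroup.centralizer_le (SetLike.coe_subset_coe.2 hJcore))).trans
      (CosetGraph.SylowIn.le_pCoreOf inf_le_left ?_ hCbp)
    refine fun g hg => Flavell42.mem_normalizer_of_forall fun x hx => ⟨?_, ?_⟩
    · exact (H.map f).mul_mem ((H.map f).mul_mem hg hx.1) ((H.map f).inv_mem hg)
    · refine mem_centralizer_iff.2 fun z hz => ?_
      have hz' := Flavell42.conj_mem (inv_mem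
        ((Subgroup.map_mono hHJ).trans (le_normalizer_map f) hg)) hz
      rw [inv_inv] at hz'
      have := mem_centralizer_iff.1 hx.2 _ hz'
      calc z * (g * x * g⁻¹) = g * (g⁻¹ * z * g * x) * g⁻¹ := by group
        _ = g * (x * (g⁻¹ * z * g)) * g⁻¹ := by rw [this]
        _ = g * x * g⁻¹ * z := by group
  have hmain := hK.main (X ⧸ O) (A.map f) (H.map f) hact hcons
  -- the intersection of invariant Sylow subgroups passes to the quotient
  have hpinv : pInv p (A.map f) (H.map f) = Q.map f := by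
    refine le_antisymm ?_ (Flavell42.map_pInv_le hAH f)
    set P' := pInv p (A.map f) (H.map f) with hP'
    set J1 := H ⊓ P'.comap f with hJ1
    have hAP' : A ≤ normalizer (P'.comap f : Set X) := fun b hb => le_normalizer_comap f
      (Flavell42.act_le_normalizer_pInv hact ⟨b, hb, rfl⟩)
    have hAJ1 : A ≤ normalizer (J1 : Set X) := Coprime.le_normalizer_inf hAH.norm hAP'
    have hactJ : Act A J1 := hAH.sub inf_le_left hAJ1
    obtain ⟨S0, hS0, hS0A⟩ := Flavell42.exists_invSylow (p := p) hactJ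
    -- `J1 = O S0`
    have hJ1S : J1 ≤ S0 ⊔ O := by
      intro x hx
      set N1 := S0 ⊔ O with hN1
      have hfx : f x ∈ S0.map f := by
        have hSm : S0.map f = J1.map f := by
          refine eq_of_le_of_card_ge (Subgroup.map_mono hS0.1) ?_
          obtain ⟨i, hi⟩ := IsPGroup.iff_card.1
            ((Flavell42.isPGroup_pInv hact).to_le (map_le_iff_le_comap.2 inf_le_right : J1.map f ≤ P'))
          obtain ⟨j, hj⟩ := IsPGroup.iff_card.1 (hS0.isPGroup.map f)
          rw [hi, hj]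
          refine Nat.pow_le_pow_right hp.pos ?_
          -- the index of `S0` in `J1` is prime to `p`
          have hdvd : Nat.card (J1.map f) ∣ Nat.card J1 := card_map_dvd J1 f
          rw [hi] at hdvd
          have h1 := (hp.pow_dvd_iff_le_factorization Nat.card_pos.ne').1 hdvd
          have hinj : Function.Injective (f.comp S0.subtype) := fun s t hst => Subtype.ext (by
            have hst' : (s : X)⁻¹ * t ∈ O := hfO.1 (by
              rw [map_mul, map_inv]; exact inv_mul_eq_one.2 hst)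
            exact inv_mul_eq_one.1 (HHS57.eq_one_of_isPGroup_of_not_dvd hp hS0.isPGroup
              (mul_mem (inv_mem s.2) t.2)
              fun hd => hOp (hd.trans (Subgroup.orderOf_dvd_natCard O hst'))))
          have hcard : Nat.card (S0.map f) = Nat.card S0 := by
            rw [show S0.map f = (f.comp S0.subtype).range by
              rw [MonoidHom.range_comp, Subgroup.range_subtype]]
            exact (Nat.card_congr (MonoidHom.ofInjective hinj).toEquiv).symm
          rw [hcard, hS0.2] at hj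
          exact h1.trans (Nat.pow_right_injective hp.two_le hj).le
        rw [hSm]; exact ⟨x, hx, rfl⟩
      obtain ⟨s, hs, hsx⟩ := hfx
      have : s⁻¹ * x ∈ O := hfO.1 (by rw [map_mul, map_inv, hsx, inv_mul_cancel])
      rw [show x = s * (s⁻¹ * x) by group]
      exact mul_mem (mem_sup_left hs) (mem_sup_right this)
    -- `S0` is the only invariant Sylow subgroup of `J1`
    have hS0n : J1 ⊓ centralizer (A : Set X) ≤ normalizer (S0 : Set X) := by
      rintro x ⟨hx, hxA⟩
      obtain ⟨s, hs, o, ho, rfl⟩ := mem_sup_of_normal_right.1 (hJ1S hx)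
      have hfix : ∀ b ∈ A, b * s * b⁻¹ = s := fun b hb => by
        have h1 : b * s * b⁻¹ * (b * o * b⁻¹) = s * o := by
          have := mem_centralizer_iff.1 hxA b hb
          calc b * s * b⁻¹ * (b * o * b⁻¹) = b * (s * o) * b⁻¹ := by group
            _ = s * o := by rw [this, mul_inv_cancel_right]
        have h2 : s⁻¹ * (b * s * b⁻¹) = o * (b * o * b⁻¹)⁻¹ := by
          rw [eq_mul_inv_iff_mul_eq, mul_assoc, h1, inv_mul_cancel_left]
        have h3 : s⁻¹ * (b * s * b⁻¹) = 1 := HHS57.eq_one_of_isPGroup_of_not_dvd hp hS0.isPGroup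
          (mul_mem (inv_mem hs) (Flavell42.conj_mem (hS0A hb) hs)) fun hd => hOp (hd.trans
          (Subgroup.orderOf_dvd_natCard O (h2 ▸ O.mul_mem ho (O.inv_mem
            (Subgroup.Normal.conj_mem inferInstance o ho b)))))
        exact (inv_mul_eq_one.1 h3).symm
      have hsA : s ∈ centralizer (A : Set X) := mem_centralizer_iff.2 fun b hb =>
        mul_inv_eq_iff_eq_mul.1 (hfix b hb)
      have hoA : o ∈ centralizer (A : Set X) := by
        have := mul_mem (inv_mem hsA) hxA
        rwa [inv_mul_cancel_left] at this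
      refine mul_mem (le_normalizer hs) ((centralizer_le_normalizer _) ?_)
      exact Subgroup.centralizer_le (SetLike.coe_subset_coe.2 (hS0.1.trans inf_le_left))
        (hOc ⟨ho, hoA⟩)
    -- hence it lies in `Q`
    have hS0Q : S0 ≤ Q := by
      refine Flavell42.le_pInv hAH (hS0.1.trans inf_le_left) hS0.isPGroup hS0A fun c hc => ?_
      have hcJ : c ∈ normalizer (J1 : Set X) := by
        refine Coprime.le_normalizer_inf (A := H ⊓ centralizer (A : Set X))
          (inf_le_left.trans le_normalizer) (fun d hd => le_normalizer_comap f ?_) hc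
        refine Flavell42.centralizer_le_normalizer_pInv (le_normalizer ⟨d, hd.1, rfl⟩) ?_
        rintro _ ⟨b, hb, rfl⟩
        rw [← map_mul, ← map_mul, mem_centralizer_iff.1 hd.2 b hb]
      obtain ⟨hS', hS'A⟩ := Flavell42.invSylow_smul hS0 hS0A hcJ
        (centralizer_le_normalizer (A : Set X) hc.2)
      obtain ⟨d, hd, hde⟩ := Flavell42.invSylow_conj hactJ hS0 hS0A hS' hS'A
      have hde' : MulAut.conj c • S0 = S0 := by
        rw [← hde, Coprime.conj_smul_eq_map]
        exact Subgroup.mem_normalizer_iff_map_conj_eq.mp (hS0n hd)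
      rw [Coprime.conj_smul_eq_map] at hde'
      exact Subgroup.mem_normalizer_iff_map_conj_eq.mpr hde'
    intro y hy
    obtain ⟨x, hx, rfl⟩ := Flavell42.pInv_le hy
    obtain ⟨s, hs, o, ho, rfl⟩ := mem_sup_of_normal_right.1 (hJ1S ⟨hx, hy⟩)
    exact ⟨s, hS0Q hs, by rw [map_mul, hfO.2 ho, mul_one]⟩
  have hKimg : K (X ⧸ O) (Q.map f) = (K X Q).map f := hK.map_of_injOn f fun s t hst =>
    Subtype.ext (inv_mul_eq_one.1 (hQO (mul_mem (inv_mem s.2) t.2) (hfO.1 (by
      rw [map_mul, map_inv]; exact inv_mul_eq_one.2 hst))))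
  rw [hpinv, hKimg] at hmain
  -- so `H` normalises `K(Q) O`
  set Kp := K X Q with hKp
  have hKQ : Kp ≤ Q := hK.le X Q
  have hJ2 : ∀ h ∈ H, ∀ y ∈ Kp, h * y * h⁻¹ ∈ Kp ⊔ O := fun h hh y hy => by
    have h1 : f (h * y * h⁻¹) ∈ Kp.map f := by
      rw [map_mul, map_mul, map_inv]
      exact Flavell42.conj_mem (hmain ⟨h, hh, rfl⟩) ⟨y, hy, rfl⟩
    have h2 : h * y * h⁻¹ ∈ (Kp.map f).comap f := h1
    rwa [comap_map_eq, QuotientGroup.ker_mk'] at h2
  rintro d ⟨hd, hda⟩
  have hsyl := isSylowIn_sup (Kp := Kp) (hQp.to_le hKQ) hOp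
  have hsyl' : IsSylowIn p (Kp.map (MulAut.conj d).toMonoidHom) (Kp ⊔ O) := by
    refine ⟨?_, ?_⟩
    · rintro _ ⟨y, hy, rfl⟩; exact hJ2 d hd y hy
    · rw [Subgroup.card_map_of_injective (MulAut.conj d).injective]; exact hsyl.2
  obtain ⟨j, hj, hje⟩ := hsyl.exists_conj hsyl'
  obtain ⟨k, hk, o, ho, rfl⟩ := mem_sup_of_normal_right.1 hj
  set o1 := k * o * k⁻¹ with ho1
  have ho1O : o1 ∈ O := Subgroup.Normal.conj_mem inferInstance o ho k
  have hn : o1⁻¹ * d ∈ normalizer (Kp : Set X) := by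
    refine Subgroup.mem_normalizer_iff_map_conj_eq.mpr ?_
    have hkK : Kp.map (MulAut.conj k).toMonoidHom = Kp :=
      Subgroup.mem_normalizer_iff_map_conj_eq.mp (le_normalizer hk)
    have hmap : ∀ g h : X, Kp.map (MulAut.conj (g * h)).toMonoidHom =
        (Kp.map (MulAut.conj h).toMonoidHom).map (MulAut.conj g).toMonoidHom := fun g h => by
      rw [Subgroup.map_map, map_mul]; rfl
    show Kp.map (MulAut.conj (o1⁻¹ * d)).toMonoidHom = Kp
    rw [hmap, ← hje, ← hmap, show o1⁻¹ * (k * o) = k by rw [ho1]; group, hkK]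
  -- replace it by a fixed element
  have haN : a ∈ normalizer (Kp : Set X) :=
    hK.normalizer_le Q (Flavell42.act_le_normalizer_pInv hAH haA)
  set n := o1⁻¹ * d with hndef
  have hdiff : n⁻¹ * (a * n * a⁻¹) ∈ O ⊓ normalizer (Kp : Set X) := by
    refine ⟨?_, Subgroup.mul_mem _ (Subgroup.inv_mem _ hn) (Subgroup.mul_mem _ (Subgroup.mul_mem _ haN hn) (Subgroup.inv_mem _ haN))⟩
    have hcd : a * d * a⁻¹ = d := by
      rw [(mem_centralizer_singleton_iff.1 hda).symm, mul_inv_cancel_right]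
    have e : n⁻¹ * (a * n * a⁻¹) = d⁻¹ * (o1 * (a * o1⁻¹ * a⁻¹)) * (d⁻¹)⁻¹ := by
      rw [hndef]
      calc (o1⁻¹ * d)⁻¹ * (a * (o1⁻¹ * d) * a⁻¹) =
          d⁻¹ * o1 * (a * o1⁻¹ * a⁻¹) * (a * d * a⁻¹) := by group
        _ = _ := by rw [hcd]; group
    rw [e]
    exact Subgroup.Normal.conj_mem inferInstance _ (O.mul_mem ho1O
      (Subgroup.Normal.conj_mem inferInstance _ (O.inv_mem ho1O) a)) _
  obtain ⟨m, hm, hnm⟩ := exists_mul_commute hr ha (N := O ⊓ normalizer (Kp : Set X))
    (fun y hy => ⟨Subgroup.Normal.conj_mem inferInstance y hy.1 a,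
      Subgroup.mul_mem _ (Subgroup.mul_mem _ haN hy.2) (Subgroup.inv_mem _ haN)⟩)
    (fun hd' => hrH (hd'.trans (card_dvd_of_le (inf_le_left.trans hOH)))) hdiff
  set o2 := d * (n * m)⁻¹ with ho2
  have ho2O : o2 ∈ O := by
    rw [ho2, hndef, show d * (o1⁻¹ * d * m)⁻¹ = d * m⁻¹ * d⁻¹ * o1 by group]
    exact O.mul_mem (Subgroup.Normal.conj_mem inferInstance _ (O.inv_mem hm.1) d) ho1O
  have ho2a : o2 ∈ centralizer {a} := mul_mem hda (inv_mem (mem_centralizer_singleton_iff.2 hnm.symm))
  have ho2K : o2 ∈ normalizer (Kp : Set X) := centralizer_le_normalizer _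
    (Subgroup.centralizer_le (SetLike.coe_subset_coe.2 (hKQ.trans hQH))
      (hOc ⟨ho2O, hOa ⟨ho2O, ho2a⟩⟩))
  rw [show d = o2 * (n * m) by rw [ho2, inv_mul_cancel_right]]
  exact mul_mem ho2K (mul_mem hn hm.2)

/-- `normK_aux` without assuming that `O` is normal in the ambient group. -/
theorem normK (hK : KFun p K) (hr : r.Prime) (ha : a ^ r = 1) (haA : a ∈ A) (hAH : Act A H)
    (hrH : ¬ r ∣ Nat.card H) (hOH : O ≤ H) (hHO : H ≤ normalizer (O : Set X))
    (hAO : A ≤ normalizer (O : Set X)) (hOp : ¬ p ∣ Nat.card O)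
    (hOc : O ⊓ centralizer (A : Set X) ≤ centralizer (H : Set X))
    (hOa : O ⊓ centralizer {a} ≤ centralizer (A : Set X))
    (hJH : J ≤ H) (hHJ : H ≤ normalizer (J : Set X)) (hJp : ∀ y ∈ J, ∃ k, y ^ p ^ k ∈ O)
    (hcon : ∀ x ∈ H, (orderOf x).Coprime p → (∀ y ∈ J, x * y * x⁻¹ * y⁻¹ ∈ O) → x ∈ O) :
    H ⊓ centralizer {a} ≤ normalizer (K X (pInv p A H) : Set X) := by
  set N := normalizer (O : Set X) with hN
  have hO : O ≤ N := le_normalizer
  haveI : (O.subgroupOf N).Normal := Subgroup.normal_in_normalizer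
  have hmA : (A.subgroupOf N).map N.subtype = A := map_subgroupOf_eq_of_le hAO
  have hmH : (H.subgroupOf N).map N.subtype = H := map_subgroupOf_eq_of_le hHO
  have hcard : ∀ {S : Subgroup X}, S ≤ N → Nat.card (S.subgroupOf N) = Nat.card S := fun hS =>
    Nat.card_congr (subgroupOfEquivOfLe hS).toEquiv
  have hact : Act (A.subgroupOf N) (H.subgroupOf N) :=
    { norm := fun b hb => Flavell42.mem_normalizer_of_forall fun x hx =>
        show (b : X) * x * (b : X)⁻¹ ∈ H from Flavell42.conj_mem (hAH.norm hb) hx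
      cop := by rw [hcard hAO, hcard hHO]; exact hAH.cop
      solv := by
        haveI := hAH.solv
        exact Group.isSolvable_of_isSolvable_injective (f := (subgroupOfEquivOfLe hAO).toMonoidHom)
          (subgroupOfEquivOfLe hAO).injective }
  have key := normK_aux (A := A.subgroupOf N) (H := H.subgroupOf N) (O := O.subgroupOf N)
    (J := J.subgroupOf N) (a := ⟨a, hAO haA⟩) hK hr (Subtype.ext ha) haA hact
    (by rwa [hcard hHO]) (fun x hx => hOH hx) (by rwa [hcard hO])
    (fun x hx => mem_centralizer_iff.2 fun h hh => Subtype.ext (mem_centralizer_iff.1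
      (hOc ⟨hx.1, mem_centralizer_iff.2 fun b hb =>
        congrArg Subtype.val (mem_centralizer_iff.1 hx.2 ⟨b, hAO hb⟩ hb)⟩) _ hh))
    (fun x hx => mem_centralizer_iff.2 fun b hb => Subtype.ext (mem_centralizer_iff.1
      (hOa ⟨hx.1, mem_centralizer_singleton_iff.2
        (congrArg Subtype.val (mem_centralizer_singleton_iff.1 hx.2))⟩) _ hb))
    (fun x hx => hJH hx)
    (fun g hg => Flavell42.mem_normalizer_of_forall fun x hx =>
      show (g : X) * x * (g : X)⁻¹ ∈ J from Flavell42.conj_mem (hHJ hg) hx)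
    (fun y hy => by
      obtain ⟨k, hk⟩ := hJp y hy
      exact ⟨k, hk⟩)
    (fun x hx hcop h => hcon x hx (by rwa [Subgroup.orderOf_coe]) fun y hy =>
      h ⟨y, hHO (hJH hy)⟩ hy)
  rintro d ⟨hd, hda⟩
  have h1 := key (x := ⟨d, hHO hd⟩)
    ⟨hd, mem_centralizer_singleton_iff.2 (Subtype.ext (mem_centralizer_singleton_iff.1 hda))⟩
  have h2 := le_normalizer_map N.subtype ⟨_, h1, rfl⟩
  rwa [hK.map _ _ _ N.subtype_injective,
    ← Flavell42.pInv_map_injective hact _ N.subtype_injective, hmA, hmH] at h2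

end Cfsg.Agent.Lib.Flavell57
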